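/-
The field of q² elements for the presentations of SU₃(q).

* `eta θ`: the multiplier of the diagonal element with first entry `θ`; `pow_cover`.
* `eta_gen`, `zeta_gen`: it, and its power `q - 1`, generate the field as a ring.
* `exists_pair`: powers `α` of it with `α + 1` a power and generating the field.
* `exists_monic_lift`: a monic integral polynomial of degree at most `2 e` killing a given element.
-/
import Cfsg.Agent.Lib.PSL2.Presentation
import Cfsg.Agent.Lib.Unitary.Field

set_option autoImplicit false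
set_option linter.unusedSectionVars false

open Polynomial

namespace Cfsg.Agent.SUPresent

open Cfsg.Agent.Unitary

variable {F : Type*} [Field F] [Fintype F] {q : ℕ}

/-- The multiplier. -/
def eta (q : ℕ) (θ : F) : F := (θ ^ q) ^ 2 / θ

/-- The number of classes of multipliers. -/
def gg (q : ℕ) : ℕ := if 3 ∣ q + 1 then 3 else 1

theorem gg_le (q : ℕ) : gg q ≤ 3 := by unfold gg; split_ifs <;> omega

theorem eta_eq (hF : Fintype.card F = q ^ 2) (θ : F) (hθ : θ ≠ 0) : eta q θ = θ ^ (2 * q - 1) := by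
  have := two_le_q hF
  rw [eta, ← pow_mul, div_eq_iff hθ, ← pow_succ]
  congr 1; omega

theorem eta_ne_zero {θ : F} (hθ : θ ≠ 0) : eta q θ ≠ 0 :=
  div_ne_zero (pow_ne_zero _ (pow_ne_zero _ hθ)) hθ

theorem pow_dvd_iff (hF : Fintype.card F = q ^ 2) {θ : Fˣ} (hθ : ∀ x : Fˣ, x ∈ Subgroup.zpowers θ) (j : ℕ) :
    (θ : F) ^ j = 1 ↔ q ^ 2 - 1 ∣ j := by
  rw [← Units.val_pow_eq_pow_val, ← Units.val_one, Units.val_inj, ← orderOf_dvd_iff_pow_eq_one,
    orderOf_eq_card_of_forall_mem_zpowers hθ, card_units hF]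

theorem three_dvd_sub_one (h : 3 ∣ q + 1) : 3 ∣ q ^ 2 - 1 := dvd_trans h (q_succ_dvd q)

/-- Every element is a power of the multiplier times one of `gg q` powers of `θ`. -/
theorem pow_cover (hF : Fintype.card F = q ^ 2) {θ : Fˣ} (hθ : ∀ x : Fˣ, x ∈ Subgroup.zpowers θ) {a : F}
    (ha : a ≠ 0) : ∃ i j : ℕ, j < gg q ∧ a = eta q (θ : F) ^ i * (θ : F) ^ j := by
  obtain ⟨m, rfl⟩ := PSL2.Pres.exists_pow_eq hθ a ha
  rw [eta_eq hF _ θ.ne_zero]
  have hq := two_le_q hF
  have h3 : (θ : F) ^ ((2 * q - 1) * (2 * q + 1)) = (θ : F) ^ 3 := by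
    obtain ⟨r, hr⟩ : ∃ r, q = r + 1 := ⟨q - 1, by omega⟩
    have h1 : (θ : F) ^ (q ^ 2 - 1) = 1 := (pow_dvd_iff hF hθ _).2 dvd_rfl
    rw [show (2 * q - 1) * (2 * q + 1) = 3 + (q ^ 2 - 1) * 4 by
      subst hr
      rw [show 2 * (r + 1) - 1 = 2 * r + 1 by omega,
        show (r + 1) ^ 2 - 1 = r * r + 2 * r by
          rw [show (r + 1) ^ 2 = r * r + 2 * r + 1 by ring, Nat.add_sub_cancel]]
      ring, pow_add, pow_mul _ (q ^ 2 - 1), h1, one_pow, mul_one]
  unfold gg
  split_ifs with hg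
  · refine ⟨(2 * q + 1) * (m / 3), m % 3, Nat.mod_lt _ (by norm_num), ?_⟩
    rw [← pow_mul, ← mul_assoc, pow_mul, h3, ← pow_mul, ← pow_add, Nat.div_add_mod]
  · have hcop : Nat.Coprime (2 * q - 1) (q ^ 2 - 1) := by
      rw [← Nat.coprime_iff_gcd_eq_one.symm]
      by_contra hne
      obtain ⟨r, hr, hd⟩ := Nat.exists_prime_and_dvd hne
      have ha := hd.trans (Nat.gcd_dvd_left _ _)
      have hb := hd.trans (Nat.gcd_dvd_right _ _)
      have : r ∣ 3 := by
        have h4 : r ∣ (2 * q - 1) * (2 * q + 1) := dvd_mul_of_dvd_left ha _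
        rw [show (2 * q - 1) * (2 * q + 1) = 3 + (q ^ 2 - 1) * 4 by
          obtain ⟨s, rfl⟩ : ∃ s, q = s + 1 := ⟨q - 1, by omega⟩
          rw [show 2 * (s + 1) - 1 = 2 * s + 1 by omega,
            show (s + 1) ^ 2 - 1 = s * s + 2 * s by
              rw [show (s + 1) ^ 2 = s * s + 2 * s + 1 by ring, Nat.add_sub_cancel]]
          ring] at h4
        exact (Nat.dvd_add_left (dvd_mul_of_dvd_left hb 4)).1 h4
      obtain rfl : r = 3 := (Nat.prime_dvd_prime_iff_eq hr Nat.prime_three).1 this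
      omega
    obtain ⟨i, hi⟩ := Nat.exists_mul_mod_eq_one_of_coprime hcop
      (by have : 4 ≤ q ^ 2 := Nat.pow_le_pow_left hq 2
          omega)
    refine ⟨i * m, 0, one_pos, ?_⟩
    have key : (θ : F) ^ ((2 * q - 1) * i) = θ := by
      have h := Nat.div_add_mod ((2 * q - 1) * i) (q ^ 2 - 1)
      rw [hi.2] at h
      rw [← h, pow_succ, pow_mul, (pow_dvd_iff hF hθ _).2 dvd_rfl, one_pow, one_mul]
    rw [pow_zero, mul_one, ← pow_mul, ← mul_assoc, pow_mul _ _ m, key]

/-- A subring generated by one element is the set of values of the integral polynomials. -/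
theorem surjective_of_closure {t : F} (h : Subring.closure ({t} : Set F) = ⊤) :
    Function.Surjective fun P : ℤ[X] => aeval t P := by
  intro r
  have hle : Subring.closure ({t} : Set F) ≤ (aeval t : ℤ[X] →ₐ[ℤ] F).toRingHom.range :=
    Subring.closure_le.2 (by rintro _ rfl; exact ⟨X, by simp⟩)
  obtain ⟨P, hP⟩ := hle (h ▸ Subring.mem_top r)
  exact ⟨P, hP⟩

/-- An element of a proper subring generated by one element. -/
theorem exists_small {p m : ℕ} [Fact p.Prime] [CharP F p] (hF : Fintype.card F = q ^ 2) (hq : q = p ^ m) (t : F)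
    (h : Subring.closure ({t} : Set F) ≠ ⊤) : ∃ f r : ℕ, 1 ≤ f ∧ 2 ≤ r ∧ f * r = 2 * m ∧ t ^ p ^ f = t := by
  classical
  set K := Subring.closure ({t} : Set F) with hK
  letI : Field K := (Finite.isField_of_domain K).toField
  haveI : Fintype K := Fintype.ofFinite K
  have hcard : Fintype.card F = Fintype.card K ^ Module.finrank K F := Module.card_eq_pow_finrank
  haveI : CharP K p := RingHom.charP K.subtype Subtype.val_injective p
  obtain ⟨f, hp, hf⟩ := FiniteField.card K p
  set r := Module.finrank K F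
  have hfr : (f : ℕ) * r = 2 * m := by
    rw [hf, hF, hq, ← pow_mul, ← pow_mul, mul_comm m] at hcard
    exact (Nat.pow_right_injective hp.two_le hcard).symm
  refine ⟨f, r, f.pos, ?_, hfr, ?_⟩
  · by_contra hr
    apply h
    rw [eq_top_iff]
    intro x _
    have hr0 : 0 < r := Module.finrank_pos
    have h1 : Fintype.card F = Fintype.card K := by
      rw [hcard, show r = 1 by omega, pow_one]
    have hbij : Function.Bijective (Subtype.val : K → F) :=
      (Fintype.bijective_iff_injective_and_card _).2 ⟨Subtype.val_injective, h1.symm⟩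
    obtain ⟨y, rfl⟩ := hbij.2 x
    exact y.2
  · have := FiniteField.pow_card (⟨t, Subring.subset_closure rfl⟩ : K)
    rw [hf] at this
    simpa using congrArg Subtype.val this

theorem closure_of_bound {t : F} (hF : Fintype.card F = q ^ 2) (ht : t ≠ 0) {k : ℕ}
    (hdvd : ∀ j : ℕ, t ^ j = 1 → k ∣ 3 * j)
    (hbad : ∀ l r : ℕ, 2 ≤ l → 2 ≤ r → l ^ r = q ^ 2 → ¬ k ∣ 3 * (l - 1)) :
    Subring.closure ({t} : Set F) = ⊤ := by
  by_contra h
  obtain ⟨p, m, hp, hchar, hqp, hm⟩ := exists_prime_pow hF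
  have := Fact.mk hp
  obtain ⟨f, r, hf, hr, hfr, hpow⟩ := exists_small hF hqp t h
  have hl : 2 ≤ p ^ f := le_trans hp.two_le (Nat.le_self_pow (by omega) p)
  refine hbad (p ^ f) r hl hr ?_ (hdvd _ ?_)
  · rw [← pow_mul, hfr, hqp, ← pow_mul, mul_comm]
  · refine mul_right_cancel₀ ht ?_
    rw [← pow_succ, Nat.sub_add_cancel (by omega), hpow, one_mul]

/-- `η` generates the field. -/
theorem eta_gen (hF : Fintype.card F = q ^ 2) {θ : Fˣ} (hθ : ∀ x : Fˣ, x ∈ Subgroup.zpowers θ) (h2 : q ≠ 2) :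
    Subring.closure ({eta q (θ : F)} : Set F) = ⊤ := by
  have hq := two_le_q hF
  refine closure_of_bound hF (eta_ne_zero θ.ne_zero) (k := q ^ 2 - 1) (fun j hj => ?_) fun l r hl hr hlr hd => ?_
  · obtain ⟨s, rfl⟩ : ∃ s, q = s + 1 := ⟨q - 1, by omega⟩
    rw [eta_eq hF _ θ.ne_zero, ← pow_mul] at hj
    have h := (pow_dvd_iff hF hθ _).1 hj
    have h4 : (s + 1) ^ 2 - 1 ∣ (2 * (s + 1) - 1) * j * (2 * (s + 1) + 1) := dvd_mul_of_dvd_left h _
    rw [show (2 * (s + 1) - 1) * j * (2 * (s + 1) + 1) = ((s + 1) ^ 2 - 1) * (4 * j) + 3 * j by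
      rw [show 2 * (s + 1) - 1 = 2 * s + 1 by omega,
        show (s + 1) ^ 2 - 1 = s * s + 2 * s by
          rw [show (s + 1) ^ 2 = s * s + 2 * s + 1 by ring, Nat.add_sub_cancel]]
      ring] at h4
    exact (Nat.dvd_add_right (dvd_mul_right _ _)).1 h4
  · have hlq : l ≤ q := by
      by_contra hlt
      have : q ^ 2 < l ^ r := lt_of_lt_of_le (Nat.pow_lt_pow_left (by omega) two_ne_zero)
        (Nat.pow_le_pow_right (by omega) hr)
      omega
    have := Nat.le_of_dvd (by omega) hd
    have : 3 * q < q ^ 2 + 2 := by nlinarith [show 3 ≤ q by omega]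
    omega

/-- The power `η ^ (q - 1)` generates the field. -/
theorem zeta_gen (hF : Fintype.card F = q ^ 2) {θ : Fˣ} (hθ : ∀ x : Fˣ, x ∈ Subgroup.zpowers θ) (h2 : q ≠ 2)
    (h5 : q ≠ 5) (h8 : q ≠ 8) : Subring.closure ({eta q (θ : F) ^ (q - 1)} : Set F) = ⊤ := by
  have hq := two_le_q hF
  refine closure_of_bound hF (pow_ne_zero _ (eta_ne_zero θ.ne_zero)) (k := q + 1) (fun j hj => ?_)
    fun l r hl hr hlr hd => ?_
  · obtain ⟨s, rfl⟩ : ∃ s, q = s + 1 := ⟨q - 1, by omega⟩
    rw [eta_eq hF _ θ.ne_zero, ← pow_mul, ← pow_mul] at hj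
    have h := (pow_dvd_iff hF hθ _).1 hj
    rw [show (s + 1) ^ 2 - 1 = (s + 1 + 1) * s by
        rw [show (s + 1) ^ 2 = (s + 1 + 1) * s + 1 by ring, Nat.add_sub_cancel],
      show (2 * (s + 1) - 1) * ((s + 1 - 1) * j) = (2 * s + 1) * j * s by
        rw [show 2 * (s + 1) - 1 = 2 * s + 1 by omega, Nat.add_sub_cancel]; ring] at h
    have h' := (Nat.mul_dvd_mul_iff_right (by omega : 0 < s)).1 h
    have h4 : s + 1 + 1 ∣ (2 * s + 1) * j + 3 * j := by
      rw [show (2 * s + 1) * j + 3 * j = (s + 1 + 1) * (2 * j) by ring]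
      exact dvd_mul_right _ _
    exact (Nat.dvd_add_right h').1 h4
  · have h3l : q < 3 * l := by
      have := Nat.le_of_dvd (by omega) hd
      omega
    rcases Nat.lt_or_ge r 3 with hr3 | hr3
    · obtain rfl : r = 2 := by omega
      obtain rfl : l = q := Nat.pow_left_injective two_ne_zero hlr
      have h6 : l + 1 ∣ 6 := by
        have h1 : l + 1 ∣ 3 * (l - 1) + 6 := ⟨3, by omega⟩
        exact (Nat.dvd_add_right hd).1 h1
      have := Nat.le_of_dvd (by norm_num) h6
      have : l ≤ 5 := by omega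
      interval_cases l <;> omega
    · have hl9 : l < 9 := by
        by_contra hl9
        have h1 : l ^ 3 ≤ l ^ r := Nat.pow_le_pow_right (by omega) hr3
        have h2 : q ^ 2 < (3 * l) ^ 2 := Nat.pow_lt_pow_left h3l two_ne_zero
        have h3 : (3 * l) ^ 2 ≤ l ^ 3 := by
          rw [mul_pow, pow_succ' l 2]
          exact Nat.mul_le_mul_right _ (by omega)
        omega
      have hr6 : r < 11 := by
        by_contra hr6
        have : q < 27 := by omega
        have h1 : 2 ^ 11 ≤ l ^ r := le_trans (Nat.pow_le_pow_left hl 11) (Nat.pow_le_pow_right (by omega) (by omega))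
        have h2 : q ^ 2 ≤ 26 ^ 2 := Nat.pow_le_pow_left (by omega) 2
        omega
      have : q < 27 := by omega
      interval_cases l <;> interval_cases r <;> interval_cases q <;> omega

/-- A monic polynomial over `ℤ` of small degree lifting the minimal polynomial. -/
theorem exists_monic_lift {p m : ℕ} [Fact p.Prime] [CharP F p] (hF : Fintype.card F = q ^ 2) (hq : q = p ^ m) (t : F) :
    ∃ f : ℤ[X], f.Monic ∧ f.natDegree ≤ 2 * m ∧
      f.map (Int.castRingHom (ZMod p)) = @minpoly (ZMod p) F _ _ (ZMod.algebra F p) t := by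
  letI : Algebra (ZMod p) F := ZMod.algebra F p
  have hl : minpoly (ZMod p) t ∈ Polynomial.lifts (Int.castRingHom (ZMod p)) :=
    Polynomial.map_surjective _ ZMod.intCast_surjective _
  obtain ⟨f, hf, hdeg, hmon⟩ := Polynomial.lifts_and_natDegree_eq_and_monic hl
    (minpoly.monic (IsIntegral.of_finite _ _))
  refine ⟨f, hmon, ?_, hf⟩
  have hfin : Module.finrank (ZMod p) F = 2 * m := by
    have h := Module.card_eq_pow_finrank (K := ZMod p) (V := F)
    rw [ZMod.card, hF, hq, ← pow_mul, mul_comm m] at h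
    exact (Nat.pow_right_injective (Fact.out : p.Prime).two_le h).symm
  rw [hdeg, ← hfin]
  exact minpoly.natDegree_le t

/-- A lower bound for the number of pairs `(x, x + 1)` in a set stable under the fixed field. -/
theorem card_pairs_ge (hF : Fintype.card F = q ^ 2) (H : Finset F) (hK : ∀ k x : F, k ^ q = k → k ≠ 0 → (k * x ∈ H ↔ x ∈ H))
    (hout : ∀ x ∈ H, x ^ q ≠ x) :
    H.card * H.card ≤ (q - 1) * (H.card + (q - 1) * (Nat.card {x : F // x ∈ H ∧ x + 1 ∈ H})) := by
  classical
  obtain ⟨d, hd0, hd⟩ := exists_skew hF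
  have hq := two_le_q hF
  set L : Finset F := (Finset.univ.filter fun c : F => c + c ^ q = 0).erase 0 with hL
  have hLcard : L.card = q - 1 := by
    rw [hL, Finset.card_erase_of_mem (by simp [zero_pow_q hF])]
    congr 1
    rw [← Fintype.card_subtype, ← Nat.card_eq_fintype_card, card_trace_zero hF]
  -- the line of an element is determined by `x - x^q`
  have hmaps : Set.MapsTo (fun x : F => x - x ^ q) (H : Set F) (L : Set F) := fun x hx => by
    simp only [hL, Finset.coe_erase, Finset.coe_filter, Finset.mem_univ, true_and, Set.mem_diff, Set.mem_singleton_iff]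
    refine ⟨?_, sub_ne_zero.2 fun e => hout x hx e.symm⟩
    show x - x ^ q + (x - x ^ q) ^ q = 0
    rw [sub_pow_q hF, pow_q_pow_q hF]; ring
  have hsum : H.card = ∑ c ∈ L, (H.filter fun x => x - x ^ q = c).card :=
    Finset.card_eq_sum_card_fiberwise hmaps
  have hcs : H.card ^ 2 ≤ L.card * ∑ c ∈ L, (H.filter fun x => x - x ^ q = c).card ^ 2 := by
    rw [hsum]; exact sq_sum_le_card_mul_sum_sq
  set D := (H ×ˢ H).filter fun z : F × F => z.1 - z.1 ^ q = z.2 - z.2 ^ q with hD
  have hDsum : D.card = ∑ c ∈ L, (H.filter fun x => x - x ^ q = c).card ^ 2 := by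
    rw [Finset.card_eq_sum_card_fiberwise (f := fun z : F × F => z.1 - z.1 ^ q) (t := L)
      fun z hz => hmaps (Finset.mem_product.1 (Finset.mem_filter.1 hz).1).1]
    refine Finset.sum_congr rfl fun c _ => ?_
    rw [sq, ← Finset.card_product]
    congr 1
    ext ⟨x, y⟩
    simp only [hD, Finset.mem_filter, Finset.mem_product]
    exact ⟨fun h => ⟨⟨h.1.1.1, h.2⟩, h.1.1.2, h.1.2 ▸ h.2⟩, fun h => ⟨⟨⟨h.1.1, h.2.1⟩, by rw [h.1.2, h.2.2]⟩, h.1.2⟩⟩
  have hdiag : D.card ≤ H.card + (q - 1) * Nat.card {x : F // x ∈ H ∧ x + 1 ∈ H} := by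
    set P := H.filter fun x => x + 1 ∈ H with hP
    have hPc : Nat.card {x : F // x ∈ H ∧ x + 1 ∈ H} = P.card := by
      rw [← Nat.card_eq_finsetCard]
      exact Nat.card_congr (Equiv.subtypeEquivRight fun x => by simp [hP])
    set K0 : Finset F := (Finset.univ.filter fun k : F => k ^ q = k).erase 0 with hK0
    have hK0c : K0.card = q - 1 := by
      rw [hK0, Finset.card_erase_of_mem (by simp [zero_pow_q hF])]
      congr 1
      rw [← Fintype.card_subtype, ← Nat.card_eq_fintype_card, card_fixed hF]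
    have hsub : D ⊆ (H.image fun x => (x, x)) ∪ (P ×ˢ K0).image fun z => (z.2 * z.1, z.2 * z.1 + z.2) := by
      rintro ⟨x, y⟩ hz
      simp only [hD, Finset.mem_filter, Finset.mem_product] at hz
      obtain ⟨⟨hx, hy⟩, he⟩ := hz
      by_cases hxy : x = y
      · exact Finset.mem_union_left _ (Finset.mem_image.2 ⟨x, hx, by rw [hxy]⟩)
      · have hk : (y - x) ^ q = y - x := by rw [sub_pow_q hF]; linear_combination he
        have hk0 : y - x ≠ 0 := sub_ne_zero.2 (Ne.symm hxy)
        have hki : ((y - x)⁻¹) ^ q = (y - x)⁻¹ := by rw [inv_pow, hk]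
        refine Finset.mem_union_right _ (Finset.mem_image.2 ⟨((y - x)⁻¹ * x, y - x), ?_, ?_⟩)
        · simp only [hP, hK0, Finset.mem_product, Finset.mem_filter, Finset.mem_erase, Finset.mem_univ, true_and]
          refine ⟨⟨(hK _ _ hki (inv_ne_zero hk0)).2 hx, ?_⟩, hk0, hk⟩
          rw [show (y - x)⁻¹ * x + 1 = (y - x)⁻¹ * y by field_simp; ring]
          exact (hK _ _ hki (inv_ne_zero hk0)).2 hy
        · simp only [Prod.mk.injEq]
          rw [← mul_assoc, mul_inv_cancel₀ hk0, one_mul]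
          exact ⟨rfl, by ring⟩
    refine (Finset.card_le_card hsub).trans ((Finset.card_union_le _ _).trans (add_le_add Finset.card_image_le ?_))
    refine Finset.card_image_le.trans (le_of_eq ?_)
    rw [Finset.card_product, hK0c, hPc, mul_comm]
  rw [← sq]
  refine hcs.trans ?_
  rw [hLcard, ← hDsum]
  exact Nat.mul_le_mul_left _ hdiag

/-- A power of the multiplier, one more than which is a power and which generates the field. -/
theorem exists_pair (hF : Fintype.card F = q ^ 2) {θ : Fˣ} (hθ : ∀ x : Fˣ, x ∈ Subgroup.zpowers θ) (h2 : q ≠ 2)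
    (h5 : q ≠ 5) (h8 : q ≠ 8) : ∃ A B : ℕ, eta q (θ : F) ^ B = eta q (θ : F) ^ A + 1 ∧
      Subring.closure ({eta q (θ : F) ^ A} : Set F) = ⊤ := by
  classical
  have hq := two_le_q hF
  have hη := eta_eq hF _ θ.ne_zero
  have h1 : (θ : F) ^ (q ^ 2 - 1) = 1 := (pow_dvd_iff hF hθ _).2 dvd_rfl
  by_cases hg : 3 ∣ q + 1
  swap
  · -- every nonzero element is a power
    have hne : eta q (θ : F) ^ (q - 1) + 1 ≠ 0 := by
      intro e
      have h0 : eta q (θ : F) ^ (q - 1) = -1 := eq_neg_of_add_eq_zero_left e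
      have := zeta_gen hF hθ h2 h5 h8
      rw [h0] at this
      have hd : ∀ x : F, x ∈ Subring.closure ({(-1 : F)} : Set F) → x ^ q = x := fun x hx =>
        (Subring.closure_le.2 (by
          rintro _ rfl
          exact (fixedField hF).toSubring.neg_mem (fixedField hF).toSubring.one_mem) hx : x ∈ (fixedField hF).toSubring)
      obtain ⟨d, hd0, hdq⟩ := exists_skew hF
      have hdd := hd d (this ▸ Subring.mem_top d)
      rw [hdq] at hdd
      have h20 : (2 : F) * d = 0 := by linear_combination -hdd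
      have h2F : (2 : F) = 0 := (mul_eq_zero.1 h20).resolve_right hd0
      have htop : ∀ x : F, x ^ q = x := fun x => hd x (this ▸ Subring.mem_top x)
      have hc := card_fixed hF
      rw [Nat.card_congr (Equiv.subtypeUnivEquiv htop), Nat.card_eq_fintype_card, hF] at hc
      nlinarith
    obtain ⟨i, j, hj, e⟩ := pow_cover hF hθ hne
    obtain rfl : j = 0 := by rw [gg, if_neg hg] at hj; omega
    exact ⟨q - 1, i, by rw [e, pow_zero, mul_one], zeta_gen hF hθ h2 h5 h8⟩
  -- the powers are the cubes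
  set Q := (q ^ 2 - 1) / 3 with hQ
  have h3Q : 3 * Q = q ^ 2 - 1 := Nat.mul_div_cancel' (three_dvd_sub_one hg)
  have hmem : ∀ x : F, x ≠ 0 → x ^ Q = 1 → ∃ i, x = eta q (θ : F) ^ i := by
    intro x hx hxQ
    obtain ⟨m, rfl⟩ := PSL2.Pres.exists_pow_eq hθ x hx
    rw [← pow_mul, pow_dvd_iff hF hθ, ← h3Q] at hxQ
    obtain ⟨j, rfl⟩ : 3 ∣ m := Nat.dvd_of_mul_dvd_mul_right (by
      have : 4 ≤ q ^ 2 := Nat.pow_le_pow_left hq 2
      omega) hxQ
    refine ⟨(2 * q + 1) * j, ?_⟩
    rw [hη, ← pow_mul, ← mul_assoc, show (2 * q - 1) * (2 * q + 1) = 3 + (q ^ 2 - 1) * 4 by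
      obtain ⟨s, rfl⟩ : ∃ s, q = s + 1 := ⟨q - 1, by omega⟩
      rw [show 2 * (s + 1) - 1 = 2 * s + 1 by omega,
        show (s + 1) ^ 2 - 1 = s * s + 2 * s by
          rw [show (s + 1) ^ 2 = s * s + 2 * s + 1 by ring, Nat.add_sub_cancel]]
      ring, add_mul, pow_add, mul_assoc, pow_mul _ (q ^ 2 - 1), h1, one_pow, mul_one]
  set H : Finset F := Finset.univ.filter fun x : F => x ^ Q = 1 ∧ x ^ q ≠ x with hH
  have hKH : ∀ k : F, k ^ q = k → k ≠ 0 → k ^ Q = 1 := by
    intro k hk hk0
    obtain ⟨c, hc⟩ := hg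
    have hQc : Q = c * (q - 1) := by
      have : q ^ 2 - 1 = 3 * (c * (q - 1)) := by
        rw [← mul_assoc, ← hc]; simpa using Nat.sq_sub_sq q 1
      omega
    rw [hQc, mul_comm, pow_mul, (fixed_iff hF hk0).1 hk, one_pow]
  have hstab : ∀ k x : F, k ^ q = k → k ≠ 0 → (k * x ∈ H ↔ x ∈ H) := by
    intro k x hk hk0
    simp only [hH, Finset.mem_filter, Finset.mem_univ, true_and, mul_pow, hKH k hk hk0, one_mul, hk, ne_eq,
      mul_right_inj' hk0]
  have hHcard : H.card + (q - 1) = Q := by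
    have hA : Nat.card {x : F // x ^ Q = 1} = Q :=
      card_pow_eq_one hF (by
        have : 4 ≤ q ^ 2 := Nat.pow_le_pow_left hq 2
        omega) ⟨3, by omega⟩
    have hB : (Finset.univ.filter fun x : F => x ^ Q = 1 ∧ x ^ q = x).card = q - 1 := by
      rw [show (Finset.univ.filter fun x : F => x ^ Q = 1 ∧ x ^ q = x) =
          (Finset.univ.filter fun x : F => x ^ q = x).erase 0 from Finset.ext fun x => by
        simp only [Finset.mem_filter, Finset.mem_univ, true_and, Finset.mem_erase]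
        refine ⟨fun h => ⟨fun e => ?_, h.2⟩, fun h => ⟨hKH x h.2 h.1, h.2⟩⟩
        rw [e, zero_pow (by
          have : 4 ≤ q ^ 2 := Nat.pow_le_pow_left hq 2
          omega)] at h
        exact zero_ne_one h.1]
      rw [Finset.card_erase_of_mem (by simp [zero_pow_q hF]), ← Fintype.card_subtype, ← Nat.card_eq_fintype_card,
        card_fixed hF]
    rw [Nat.card_eq_fintype_card, Fintype.card_subtype] at hA
    rw [← hA, ← hB, ← Finset.card_union_of_disjoint]
    · congr 1; ext x; simp only [hH, Finset.mem_union, Finset.mem_filter, Finset.mem_univ, true_and]; tauto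
    · rw [Finset.disjoint_filter]; tauto
  have hcount := card_pairs_ge hF H hstab fun x hx => (Finset.mem_filter.1 hx).2.2
  set N := Nat.card {x : F // x ∈ H ∧ x + 1 ∈ H} with hN
  -- the elements of small subfields
  obtain ⟨p, m, hp, hchar, hqp, hm⟩ := exists_prime_pow hF
  have := Fact.mk hp
  by_contra hcon
  push Not at hcon
  set f0 := 2 * m / 3 with hf0
  have hbad : ∀ x : F, x ∈ H ∧ x + 1 ∈ H → ∃ f ≤ f0, 1 ≤ f ∧ x ^ p ^ f = x := by
    rintro x ⟨hx, hx1⟩
    simp only [hH, Finset.mem_filter, Finset.mem_univ, true_and] at hx hx1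
    have hx0 : x ≠ 0 := fun e => hx.2 (by rw [e, zero_pow_q hF])
    have hx10 : x + 1 ≠ 0 := fun e => hx1.2 (by rw [e, zero_pow_q hF])
    obtain ⟨A, rfl⟩ := hmem x hx0 hx.1
    obtain ⟨B, hB⟩ := hmem _ hx10 hx1.1
    obtain ⟨f, r, hf, hr, hfr, hpow⟩ := exists_small hF hqp _ (hcon A B hB.symm)
    refine ⟨f, ?_, hf, hpow⟩
    rw [hf0, Nat.le_div_iff_mul_le (by norm_num)]
    have : 3 ≤ r := by
      by_contra h3
      obtain rfl : r = 2 := by omega
      obtain rfl : f = m := by omega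
      exact hx.2 (hqp.symm ▸ hpow)
    rw [← hfr]
    exact Nat.mul_le_mul_left _ this
  have hNle : N + 2 ≤ 2 * p ^ f0 := by
    have key : ∀ k, ((Finset.Icc 1 k).biUnion fun f => Finset.univ.filter fun x : F => x ^ p ^ f = x).card + 2 ≤
        2 * p ^ k := by
      intro k
      induction k with
      | zero => simp
      | succ k ih =>
        rw [show Finset.Icc 1 (k + 1) = insert (k + 1) (Finset.Icc 1 k) by ext; simp; omega, Finset.biUnion_insert]
        have hc : (Finset.univ.filter fun x : F => x ^ p ^ (k + 1) = x).card ≤ p ^ (k + 1) := by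
          have hdeg : 1 < p ^ (k + 1) := Nat.one_lt_pow (by omega) hp.one_lt
          refine le_trans ?_ ((Polynomial.card_roots' (X ^ p ^ (k + 1) - X : F[X])).trans
            (le_of_eq (FiniteField.X_pow_card_sub_X_natDegree_eq F hdeg)))
          refine (Finset.card_le_card fun x hx => Multiset.mem_toFinset.2 ?_).trans (Multiset.toFinset_card_le _)
          rw [Polynomial.mem_roots (FiniteField.X_pow_card_sub_X_ne_zero F hdeg)]
          simp only [Finset.mem_filter] at hx
          simp [hx.2]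
        have h1 := Finset.card_union_le (Finset.univ.filter fun x : F => x ^ p ^ (k + 1) = x)
          ((Finset.Icc 1 k).biUnion fun f => Finset.univ.filter fun x : F => x ^ p ^ f = x)
        have h3 : 2 * p ^ k ≤ p ^ (k + 1) := by
          rw [pow_succ']; exact Nat.mul_le_mul_right _ hp.two_le
        omega
    have hle : N ≤ ((Finset.Icc 1 f0).biUnion fun f => Finset.univ.filter fun x : F => x ^ p ^ f = x).card := by
      rw [hN, Nat.card_eq_fintype_card, Fintype.card_subtype]
      refine Finset.card_le_card fun x hx => ?_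
      obtain ⟨f, hf, hf1, hpow⟩ := hbad x (Finset.mem_filter.1 hx).2
      exact Finset.mem_biUnion.2 ⟨f, Finset.mem_Icc.2 ⟨hf1, hf⟩, by simp [hpow]⟩
    have := key f0
    omega
  have hX : (p ^ f0) ^ 3 ≤ q ^ 2 := by
    rw [hqp, ← pow_mul, ← pow_mul]
    exact Nat.pow_le_pow_right hp.pos (by omega)
  obtain ⟨c, hc⟩ := hg
  have hq11 : 11 ≤ q := by
    by_contra hlt
    have hcases : q = 2 ∨ q = 5 ∨ q = 8 := by omega
    rcases hcases with h | h | h <;> contradiction
  -- `H.card = (c - 1) (q - 1)`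
  have hHc : H.card = (c - 1) * (q - 1) := by
    have hQc : Q = c * (q - 1) := by
      have : q ^ 2 - 1 = 3 * (c * (q - 1)) := by rw [← mul_assoc, ← hc]; simpa using Nat.sq_sub_sq q 1
      omega
    rw [Nat.sub_mul, one_mul]; omega
  rw [hHc] at hcount
  set Xp := p ^ f0
  have hp2 := hp.two_le
  obtain ⟨b, rfl⟩ : ∃ b, c = b + 1 := ⟨c - 1, by omega⟩
  rw [Nat.add_sub_cancel] at hcount
  obtain ⟨s, rfl⟩ : ∃ s, q = s + 1 := ⟨q - 1, by omega⟩
  rw [Nat.add_sub_cancel] at hcount
  have hb1 : b * (b * s * s) ≤ s * ((b + N) * s) := by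
    calc b * (b * s * s) = b * s * (b * s) := by ring
      _ ≤ s * (b * s + s * N) := hcount
      _ = s * ((b + N) * s) := by ring
  have hb2 : b * b ≤ b + N := by
    have h' : b * b * (s * s) ≤ (b + N) * (s * s) := by nlinarith
    exact Nat.le_of_mul_le_mul_right h' (Nat.mul_pos (by omega) (by omega))
  have hs : s = 3 * b + 1 := by omega
  have hb3 : 3 ≤ b := by omega
  have hXq : Xp * Xp * Xp ≤ (3 * b + 2) * (3 * b + 2) := by
    calc Xp * Xp * Xp = Xp ^ 3 := by ring
      _ ≤ _ := by rw [hs] at hX; calc Xp ^ 3 ≤ _ := hX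
                                      _ = _ := by ring
  -- `b(b-1) ≤ N ≤ 2 X - 1` and `X³ ≤ (3b+2)²`
  have hbX : b * b + 1 ≤ b + 2 * Xp := by omega
  rcases eq_or_lt_of_le hb3 with rfl | hb4
  · -- q = 11
    have h11 : p ^ m = 11 := by omega
    obtain ⟨-, rfl⟩ := (Nat.Prime.pow_eq_iff (by norm_num : Nat.Prime 11)).1 h11
    simp [Xp, hf0] at hbX
  · have h7 : 4 * b + 1 ≤ b + 2 * Xp := le_trans (Nat.succ_le_succ (Nat.mul_le_mul_right b hb4)) hbX
    nlinarith [Nat.mul_le_mul h7 h7]

end Cfsg.Agent.SUPresent
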