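/-
The model for the presentation of SU₃(q): coordinates, the Borel subgroup and the long root SL₂.

* `co`: the matrix in the coordinates of a hyperbolic frame, injective and multiplicative.
* `uE`, `hE`, `emb`: unipotent and diagonal elements and the SL₂(q) on the isotropic plane.
* `card_Qpar`, `card_SU3`, `center_le`.
-/
import Cfsg.Agent.Lib.RegUnip.SU3Base
import Cfsg.Agent.Lib.SUPresent.Field
import Cfsg.Agent.Lib.Unitary.Center

set_option autoImplicit false
set_option linter.unusedSectionVars false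

open scoped MatrixGroups

namespace Cfsg.Agent.SUPresent

open Cfsg.Agent.Unitary Cfsg.Agent.RegUnip.SU Cfsg.Agent.RegUnip.SU3

variable {F : Type*} [Field F] [Fintype F] {q : ℕ} {hF : Fintype.card F = q ^ 2}

local notation "σ" => Cfsg.Agent.Unitary.conjHom hF

variable (hF) in
/-- A fixed hyperbolic frame. -/
noncomputable def fr : Fr (F := F) q 3 0 :=
  Classical.choice (Cfsg.Agent.RegUnip.SU.exists_frame hF (n := 3) (l := 0) (by norm_num))

variable (hF) in
/-- The matrix in frame coordinates. -/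
noncomputable def co (g : Cfsg.SU 3 F q) : Matrix (Fin 3) (Fin 3) F :=
  (Bm (fr hF))⁻¹ * ((g : Matrix.SpecialLinearGroup (Fin 3) F) : Matrix (Fin 3) (Fin 3) F) * Bm (fr hF)

theorem co_mul (g g' : Cfsg.SU 3 F q) : co hF (g * g') = co hF g * co hF g' := by
  simp only [co, Subgroup.coe_mul, Matrix.SpecialLinearGroup.coe_mul, Matrix.mul_assoc]
  rw [← Matrix.mul_assoc (Bm (fr hF)) (Bm (fr hF))⁻¹, Matrix.mul_nonsing_inv _ (Bm_det _ hF), Matrix.one_mul]

theorem co_one : co hF (1 : Cfsg.SU 3 F q) = 1 := by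
  simp [co, Matrix.nonsing_inv_mul _ (Bm_det (fr hF) hF)]

theorem co_injective : Function.Injective (co hF : Cfsg.SU 3 F q → Matrix (Fin 3) (Fin 3) F) := by
  intro g g' h
  have e : ∀ g : Cfsg.SU 3 F q, Bm (fr hF) * co hF g * (Bm (fr hF))⁻¹ =
      ((g : Matrix.SpecialLinearGroup (Fin 3) F) : Matrix (Fin 3) (Fin 3) F) := fun g => by
    simp only [co, ← Matrix.mul_assoc, Matrix.mul_nonsing_inv _ (Bm_det (fr hF) hF), Matrix.one_mul]
    rw [Matrix.mul_assoc, Matrix.mul_nonsing_inv _ (Bm_det (fr hF) hF), Matrix.mul_one]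
  exact Subtype.ext (Subtype.ext (by rw [← e g, ← e g', h]))

theorem co_elt {C : Matrix (Fin 3) (Fin 3) F} (h : Good σ C) : co hF (elt hF (fr hF) C) = C := by
  rw [co, elt, dif_pos h, suOfUnitary_val]
  simp only [← Matrix.mul_assoc, Matrix.nonsing_inv_mul _ (Bm_det (fr hF) hF), Matrix.one_mul]
  rw [Matrix.mul_assoc, Matrix.nonsing_inv_mul _ (Bm_det (fr hF) hF), Matrix.mul_one]

theorem co_inv_mul (g : Cfsg.SU 3 F q) : co hF g⁻¹ * co hF g = 1 := by rw [← co_mul, inv_mul_cancel, co_one]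

variable (F q) in
/-- The parameters of the unipotent radical. -/
def Qpar : Set (F × F) := {x | x.2 + x.2 ^ q + x.1 * x.1 ^ q = 0}

variable (hF) in
/-- The unipotent elements. -/
noncomputable def uE (a b : F) : Cfsg.SU 3 F q := elt hF (fr hF) (uu σ a b)

theorem co_uE {a b : F} (h : b + σ b + a * σ a = 0) : co hF (uE hF a b) = uu σ a b := co_elt (uu_good h)

theorem uE_mul {a b c e : F} (h : b + σ b + a * σ a = 0) (h' : e + σ e + c * σ c = 0) :
    uE hF a b * uE hF c e = uE hF (a + c) (b + e - c * σ a) := by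
  rw [uE, uE, elt_mul _ (uu_good h) (uu_good h'), uu_mul]; rfl

theorem par_mul {a b c e : F} (h : b + σ b + a * σ a = 0) (h' : e + σ e + c * σ c = 0) :
    (b + e - c * σ a) + σ (b + e - c * σ a) + (a + c) * σ (a + c) = 0 := by
  simp only [map_add, map_sub, map_mul, σσ hF]
  linear_combination h + h'

theorem uE_zero : uE hF (0 : F) 0 = 1 := by rw [uE, uu_zero, elt_one]

theorem uE_inv {a b : F} (h : b + σ b + a * σ a = 0) : (uE hF a b)⁻¹ = uE hF (-a) (σ b) := elt_uu_inv _ h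

theorem uE_inj {a b a' b' : F} (h : b + σ b + a * σ a = 0) (h' : b' + σ b' + a' * σ a' = 0)
    (e : uE hF a b = uE hF a' b') : a = a' ∧ b = b' := by
  have := congrArg (co hF) e
  rw [co_uE h, co_uE h'] at this
  exact ⟨by simpa [uu] using congrFun (congrFun this 1) 2, by simpa [uu] using congrFun (congrFun this 0) 2⟩

variable (hF) in
/-- The diagonal matrix. -/
def dd (a : F) : Matrix (Fin 3) (Fin 3) F := !![a, 0, 0; 0, σ a / a, 0; 0, 0, 1 / σ a]

theorem dd_good {a : F} (ha : a ≠ 0) : Good σ (dd hF a) := by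
  have hs : σ a ≠ 0 := (map_ne_zero σ).2 ha
  apply good_of_cols <;> simp [dd, Matrix.det_fin_three, σσ hF, -conjHom_apply] <;> field_simp

variable (hF) in
/-- The diagonal elements. -/
noncomputable def hE : Fˣ →* Cfsg.SU 3 F q :=
  MonoidHom.mk' (fun a => elt hF (fr hF) (dd hF (a : F))) fun a b => by
    rw [elt_mul _ (dd_good a.ne_zero) (dd_good b.ne_zero)]
    congr 1
    have ha : σ (a : F) ≠ 0 := (map_ne_zero σ).2 a.ne_zero
    have hb : σ (b : F) ≠ 0 := (map_ne_zero σ).2 b.ne_zero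
    ext i j
    fin_cases i <;> fin_cases j <;>
      simp [dd, Matrix.mul_apply, Fin.sum_univ_three, -conjHom_apply] <;> field_simp

theorem co_hE (a : Fˣ) : co hF (hE hF a) = dd hF (a : F) := co_elt (dd_good a.ne_zero)

theorem par_scale {a b : F} (h : b + σ b + a * σ a = 0) (x : F) (hx : x ≠ 0) :
    x * σ x * b + σ (x * σ x * b) + eta q x * a * σ (eta q x * a) = 0 := by
  have hσx : σ x ≠ 0 := (map_ne_zero σ).2 hx
  rw [show eta q x = σ x * σ x / x by rw [eta, conjHom_apply, sq]]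
  simp only [map_mul, map_div₀, σσ hF]
  field_simp
  linear_combination (x * σ x) * h

theorem hE_uE (x : Fˣ) {a b : F} (h : b + σ b + a * σ a = 0) :
    hE hF x * uE hF a b * (hE hF x)⁻¹ = uE hF (eta q (x : F) * a) ((x : F) * σ (x : F) * b) := by
  rw [mul_inv_eq_iff_eq_mul]
  refine co_injective (hF := hF) ?_
  rw [co_mul, co_mul, co_hE, co_uE h, co_uE (par_scale h _ x.ne_zero)]
  have hσx : σ (x : F) ≠ 0 := (map_ne_zero σ).2 x.ne_zero
  have hx := x.ne_zero
  rw [show eta q (x : F) = σ (x : F) * σ (x : F) / (x : F) by rw [eta, conjHom_apply, sq]]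
  ext i j
  fin_cases i <;> fin_cases j <;>
    simp [dd, uu, Matrix.mul_apply, Fin.sum_univ_three, map_mul, map_div₀, σσ hF, -conjHom_apply] <;> field_simp

theorem σ_coe (x : fixedField hF) : σ (x : F) = (x : F) := x.2

variable (hF) in
/-- The long root matrix. -/
def Lm (δ : F) (A : SL(2, fixedField hF)) : Matrix (Fin 3) (Fin 3) F :=
  !![((A.1 0 0 : fixedField hF) : F), 0, δ * ((A.1 0 1 : fixedField hF) : F); 0, 1, 0;
    ((A.1 1 0 : fixedField hF) : F) / δ, 0, ((A.1 1 1 : fixedField hF) : F)]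

theorem Lm_det (δ : F) (hδ : δ ≠ 0) (A : SL(2, fixedField hF)) :
    ((A.1 0 0 : fixedField hF) : F) * (A.1 1 1 : fixedField hF) - (A.1 0 1 : fixedField hF) * (A.1 1 0 : fixedField hF) = 1 := by
  have h := A.2
  rw [Matrix.det_fin_two] at h
  exact_mod_cast congrArg (fun x : fixedField hF => (x : F)) h

theorem Lm_good {δ : F} (hδ : δ ≠ 0) (hσ : σ δ = -δ) (A : SL(2, fixedField hF)) : Good σ (Lm hF δ A) := by
  have h := Lm_det δ hδ A
  apply good_of_cols <;>
    simp [Lm, Matrix.det_fin_three, hσ, σ_coe, map_div₀, -conjHom_apply] <;> field_simp <;>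
      first | ring1 | linear_combination h

/-- The long root SL₂. -/
noncomputable def emb {δ : F} (hδ : δ ≠ 0) (hσ : σ δ = -δ) : SL(2, fixedField hF) →* Cfsg.SU 3 F q :=
  MonoidHom.mk' (fun A => elt hF (fr hF) (Lm hF δ A)) fun A B => by
    rw [elt_mul _ (Lm_good hδ hσ A) (Lm_good hδ hσ B)]
    congr 1
    ext i j
    fin_cases i <;> fin_cases j <;>
      simp [Lm, Matrix.mul_apply, Fin.sum_univ_three, Fin.sum_univ_two, -conjHom_apply] <;> field_simp

theorem co_emb {δ : F} (hδ : δ ≠ 0) (hσ : σ δ = -δ) (A : SL(2, fixedField hF)) :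
    co hF (emb hδ hσ A) = Lm hF δ A := co_elt (Lm_good hδ hσ A)

theorem emb_upT {δ : F} (hδ : δ ≠ 0) (hσ : σ δ = -δ) (r : fixedField hF) :
    emb hδ hσ (PSL2.upT r) = uE hF 0 (δ * (r : F)) := by
  refine co_injective (hF := hF) ?_
  rw [co_emb, co_uE (by rw [map_zero, map_mul, hσ, σ_coe]; ring)]
  ext i j
  fin_cases i <;> fin_cases j <;> simp [Lm, uu, PSL2.Pres.upT_coe, -conjHom_apply]

theorem emb_dg {δ : F} (hδ : δ ≠ 0) (hσ : σ δ = -δ) (x : (fixedField hF)ˣ) :
    emb hδ hσ (PSL2.Pres.dg x) = hE hF (Units.map (fixedField hF).subtype.toMonoidHom x) := by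
  refine co_injective (hF := hF) ?_
  rw [co_emb, co_hE]
  have hx : ((x : fixedField hF) : F) ≠ 0 := fun e => x.ne_zero (Subtype.ext e)
  ext i j
  fin_cases i <;> fin_cases j <;> simp [Lm, dd, PSL2.Pres.dg_coe, σ_coe, hx, -conjHom_apply]

/-- The Weyl element turns `hE x` into `hE (1 / σ x)`. -/
theorem emb_wM_hE {δ : F} (hδ : δ ≠ 0) (hσ : σ δ = -δ) (x : Fˣ) :
    emb hδ hσ PSL2.Pres.wM * hE hF x * (emb hδ hσ PSL2.Pres.wM)⁻¹ = (hE hF x ^ q)⁻¹ := by
  rw [mul_inv_eq_iff_eq_mul, ← map_pow, ← map_inv]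
  refine co_injective (hF := hF) ?_
  rw [co_mul, co_mul, co_hE, co_hE, co_emb]
  have hx := x.ne_zero
  have hσx : σ (x : F) ≠ 0 := (map_ne_zero σ).2 hx
  have e : ((x ^ q)⁻¹ : Fˣ) = ((σ (x : F))⁻¹ : F) := by simp
  rw [e]
  ext i j
  fin_cases i <;> fin_cases j <;>
    simp [Lm, dd, PSL2.Pres.wM_coe, Matrix.mul_apply, Fin.sum_univ_three, map_inv₀, σσ hF, -conjHom_apply] <;>
      field_simp

theorem card_Qpar (hF : Fintype.card F = q ^ 2) : Nat.card (Qpar F q) = q ^ 3 := by
  classical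
  have h1 : ∀ a : F, ∃ b : F, b + b ^ q + a * a ^ q = 0 := fun a => by
    obtain ⟨b, hb⟩ := exists_trace_eq hF (c := -(a * a ^ q)) (by
      rw [neg_pow_q hF, mul_pow, pow_q_pow_q hF, mul_comm])
    exact ⟨b, by rw [hb, neg_add_cancel]⟩
  choose b hb using h1
  let e : Qpar F q ≃ F × {x : F // x + x ^ q = 0} :=
    { toFun := fun x => (x.1.1, ⟨x.1.2 - b x.1.1, by
        have := x.2; simp only [Qpar, Set.mem_setOf_eq] at this
        rw [sub_pow_q hF]; linear_combination this - hb x.1.1⟩)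
      invFun := fun z => ⟨(z.1, z.2.1 + b z.1), by
        show z.2.1 + b z.1 + (z.2.1 + b z.1) ^ q + z.1 * z.1 ^ q = 0
        rw [add_pow_q hF]; linear_combination z.2.2 + hb z.1⟩
      left_inv := fun x => Subtype.ext (Prod.ext rfl (sub_add_cancel _ _))
      right_inv := fun z => Prod.ext rfl (Subtype.ext (add_sub_cancel_right _ _)) }
  rw [Nat.card_congr e, Nat.card_prod, card_trace_zero hF, Nat.card_eq_fintype_card, hF]
  ring

theorem card_SU3 (hF : Fintype.card F = q ^ 2) :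
    Nat.card (Cfsg.SU 3 F q) = q ^ 3 * (q ^ 2 - 1) * (q ^ 3 + 1) := by
  have h := Unitary.card_SU hF 3 (by norm_num)
  simp [Finset.prod_range_succ, Nat.even_iff] at h
  refine Nat.eq_of_mul_eq_mul_left (show 0 < q + 1 by omega) ?_
  rw [h]; ring

end Cfsg.Agent.SUPresent
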