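/-
The unipotent radical of a Borel subgroup of SU₃(q) from short relations.

* `commute_z_shift`, `commute_z_fin`: one central root element commutes with all translates.
* `commute_shift`, `commute_fin`: the translates commute.
* `Pre.bound`: the group generated by the root group and the translates has at most `|Zs| · |F|` elements.
-/
import Cfsg.Agent.Lib.PSL2.Presentation

set_option autoImplicit false
set_option linter.unusedSectionVars false

open Polynomial
open scoped commutatorElement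

namespace Cfsg.Agent.SUPresent

open Cfsg.Agent.PSL2.Pres (cj cj_zero cj_add commute_all_of_nat word map_word exists_eval_hom exists_add_hom E_pow)

variable {G : Type*} [Group G] (u h : G)

theorem cj_succ (i : ℤ) : cj u h (1 + i) = h * cj u h i * h⁻¹ := by
  rw [cj_add, zpow_one]; rfl

theorem conj_le {S : Set G} {W : Subgroup G} (g : G) (hS : ∀ x ∈ S, g * x * g⁻¹ ∈ W) :
    ∀ x ∈ Subgroup.closure S, g * x * g⁻¹ ∈ W :=
  fun _ hx => (Subgroup.closure_le (W.comap (MulAut.conj g).toMonoidHom)).2 hS hx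

theorem conj_pow_mem {W : Subgroup G} {g : G} (hg : ∀ x ∈ W, g * x * g⁻¹ ∈ W) (n : ℕ) :
    ∀ x ∈ W, g ^ n * x * (g ^ n)⁻¹ ∈ W := by
  induction n with
  | zero => simp
  | succ n ih =>
    intro x hx
    rw [pow_succ', show g * g ^ n * x * (g * g ^ n)⁻¹ = g * (g ^ n * x * (g ^ n)⁻¹) * g⁻¹ by group]
    exact hg _ (ih x hx)

/-- A subgroup stable under `h` and containing `u` contains the translates. -/
theorem cj_nat_mem {W : Subgroup G} (hu : u ∈ W) (hW : ∀ x ∈ W, h * x * h⁻¹ ∈ W) (n : ℕ) :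
    cj u h n ∈ W := by
  rw [cj, zpow_natCast]; exact conj_pow_mem hW n u hu

theorem cj_periodic {N : ℕ} (hN : 0 < N) (hh : h ^ N = 1) (i : ℤ) : ∃ n : ℕ, cj u h i = cj u h n := by
  refine ⟨(i % (N : ℤ)).toNat, ?_⟩
  rw [Int.toNat_of_nonneg (Int.emod_nonneg i (by omega))]
  have : h ^ i = h ^ (i % (N : ℤ)) := by
    conv_lhs => rw [← Int.emod_add_mul_ediv i N]
    rw [zpow_add, zpow_mul, zpow_natCast, hh, one_zpow, mul_one]
  rw [cj, cj, this]

section centre

variable (Zs : Subgroup G) (z : G) (hZh : ∀ x ∈ Zs, h * x * h⁻¹ ∈ Zs) (hzZ : ∀ x ∈ Zs, Commute z x)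
include hZh hzZ

theorem commute_z_shift {c : ℕ} (hcz : Commute (h ^ c) z) (hzu : Commute z u)
    (h1 : cj u h 1 ∈ Subgroup.closure (Set.range (fun i : ℕ => cj u h (c * i : ℕ)) ∪ (Zs : Set G))) (n : ℕ) :
    Commute z (cj u h n) := by
  set W := Subgroup.closure (Set.range (fun i : ℕ => cj u h (c * i : ℕ)) ∪ (Zs : Set G))
  have hc : ∀ x ∈ W, h ^ c * x * (h ^ c)⁻¹ ∈ W := by
    refine conj_le _ ?_
    rintro _ (⟨i, rfl⟩ | hx)
    · refine Subgroup.subset_closure (Or.inl ⟨i + 1, ?_⟩)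
      show cj u h ((c * (i + 1) : ℕ) : ℤ) = _
      rw [show ((c * (i + 1) : ℕ) : ℤ) = (c : ℤ) + (c * i : ℕ) by push_cast; ring, cj_add, zpow_natCast]; rfl
    · exact Subgroup.subset_closure (Or.inr (conj_pow_mem hZh c _ hx))
  have hW : ∀ x ∈ W, h * x * h⁻¹ ∈ W := by
    refine conj_le _ ?_
    rintro _ (⟨i, rfl⟩ | hx)
    · show h * cj u h (c * i : ℕ) * h⁻¹ ∈ W
      rw [← cj_succ, add_comm, cj_add, MulAut.conj_apply, zpow_natCast, pow_mul]
      exact conj_pow_mem hc i _ h1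
    · exact Subgroup.subset_closure (Or.inr (hZh _ hx))
  have hle : W ≤ Subgroup.centralizer {z} := by
    rw [Subgroup.closure_le]
    rintro _ (⟨i, rfl⟩ | hx)
    · refine Subgroup.mem_centralizer_singleton_iff.2 ?_
      show cj u h (c * i : ℕ) * z = z * cj u h (c * i : ℕ)
      rw [cj, zpow_natCast, pow_mul]
      exact ((Commute.mul_left (Commute.mul_left (hcz.pow_left i) hzu.symm) (hcz.pow_left i).inv_left)).eq
    · exact Subgroup.mem_centralizer_singleton_iff.2 (hzZ _ hx).symm.eq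
  exact (Subgroup.mem_centralizer_singleton_iff.1 (hle (cj_nat_mem u h
    (Subgroup.subset_closure (Or.inl ⟨0, by simp [cj_zero]⟩)) hW n))).symm

theorem commute_z_fin {D : ℕ} (hD : 0 < D) (hz : ∀ i < D, Commute z (cj u h (i : ℕ)))
    (h1 : cj u h D ∈ Subgroup.closure ((fun i : ℕ => cj u h i) '' Set.Iio D ∪ (Zs : Set G))) (n : ℕ) :
    Commute z (cj u h n) := by
  set W := Subgroup.closure ((fun i : ℕ => cj u h i) '' Set.Iio D ∪ (Zs : Set G))
  have hW : ∀ x ∈ W, h * x * h⁻¹ ∈ W := by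
    refine conj_le _ ?_
    rintro _ (⟨i, hi, rfl⟩ | hx)
    · show h * cj u h i * h⁻¹ ∈ W
      rw [← cj_succ, show 1 + (i : ℤ) = ((i + 1 : ℕ) : ℤ) by omega]
      rcases Nat.lt_or_ge (i + 1) D with hlt | hge
      · exact Subgroup.subset_closure (Or.inl ⟨i + 1, hlt, rfl⟩)
      · rwa [show i + 1 = D by simp at hi; omega]
    · exact Subgroup.subset_closure (Or.inr (hZh _ hx))
  have hle : W ≤ Subgroup.centralizer {z} := by
    rw [Subgroup.closure_le]
    rintro _ (⟨i, hi, rfl⟩ | hx)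
    · exact Subgroup.mem_centralizer_singleton_iff.2 (hz i hi).symm.eq
    · exact Subgroup.mem_centralizer_singleton_iff.2 (hzZ _ hx).symm.eq
  exact (Subgroup.mem_centralizer_singleton_iff.1 (hle (cj_nat_mem u h
    (Subgroup.subset_closure (Or.inl ⟨0, hD, by simp [cj_zero]⟩)) hW n))).symm

end centre

/-- Commutation from one translate, one sum and one relation. -/
theorem commute_shift {A B : ℕ} (h1 : Commute (cj u h 0) (cj u h A))
    (hB : cj u h B = cj u h A * cj u h 0)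
    (hgen : cj u h 1 ∈ Subgroup.closure (Set.range fun i : ℕ => cj u h (A * i : ℕ))) (i j : ℤ) :
    Commute (cj u h i) (cj u h j) := by
  have key : ∀ n : ℕ, ∀ k ≤ n, Commute (cj u h 0) (cj u h (A * k : ℕ)) := by
    intro n
    induction n with
    | zero =>
      intro k hk
      rw [show k = 0 by omega, mul_zero, Nat.cast_zero]
    | succ n ih =>
      intro k hk
      rcases Nat.lt_or_ge k (n + 1) with hlt | hge
      · exact ih k (by omega)
      obtain rfl : k = n + 1 := by omega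
      rcases n with _ | n
      · rwa [zero_add, mul_one]
      have hd : ∀ d ≤ n + 1, ∀ s t : ℤ, t = s + (A * d : ℕ) → Commute (cj u h s) (cj u h t) :=
        fun d hd s t e => PSL2.Pres.commute_shift u h (ih d hd) e
      set M : ℤ := ((A * (n + 1) : ℕ) : ℤ) with hM
      set M' : ℤ := ((A * (n + 1 + 1) : ℕ) : ℤ) with hM'
      have hY : cj u h ((B : ℤ) + M) = cj u h M' * cj u h M := by
        rw [add_comm, cj_add, hB, map_mul, ← cj_add, ← cj_add, add_zero]
        congr 2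
      have hXY : Commute (cj u h B) (cj u h ((B : ℤ) + M)) := hd (n + 1) le_rfl _ _ (by rw [hM])
      rw [hY, hB] at hXY
      have a1 : Commute (cj u h 0) (cj u h M) := hd (n + 1) le_rfl _ _ (by rw [hM]; ring)
      have a2 : Commute (cj u h A) (cj u h M) := hd n (by omega) _ _ (by rw [hM]; push_cast; ring)
      have a3 : Commute (cj u h A) (cj u h M') := hd (n + 1) le_rfl _ _ (by rw [hM']; push_cast; ring)
      have h4 : Commute (cj u h A * cj u h 0) (cj u h M') := by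
        have := hXY.mul_right (a2.mul_left a1).inv_right
        rwa [mul_inv_cancel_right] at this
      have h5 := a3.inv_left.mul_left h4
      rwa [inv_mul_cancel_left] at h5
  set V := Subgroup.closure (Set.range fun i : ℕ => cj u h (A * i : ℕ))
  have hA : ∀ x ∈ V, h ^ A * x * (h ^ A)⁻¹ ∈ V := by
    refine conj_le _ ?_
    rintro _ ⟨i, rfl⟩
    refine Subgroup.subset_closure ⟨i + 1, ?_⟩
    show cj u h ((A * (i + 1) : ℕ) : ℤ) = _
    rw [show ((A * (i + 1) : ℕ) : ℤ) = (A : ℤ) + (A * i : ℕ) by push_cast; ring, cj_add, zpow_natCast]; rfl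
  have hV : ∀ x ∈ V, h * x * h⁻¹ ∈ V := by
    refine conj_le _ ?_
    rintro _ ⟨i, rfl⟩
    show h * cj u h (A * i : ℕ) * h⁻¹ ∈ V
    rw [← cj_succ, add_comm, cj_add, MulAut.conj_apply, zpow_natCast, pow_mul]
    exact conj_pow_mem hA i _ hgen
  have hle : V ≤ Subgroup.centralizer {cj u h 0} := by
    rw [Subgroup.closure_le]
    rintro _ ⟨i, rfl⟩
    exact Subgroup.mem_centralizer_singleton_iff.2 (key i i le_rfl).symm.eq
  refine commute_all_of_nat u h (fun n => ?_) i j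
  have hu : u ∈ V := Subgroup.subset_closure ⟨0, by simp [cj_zero]⟩
  exact (Subgroup.mem_centralizer_singleton_iff.1 (hle (cj_nat_mem u h hu hV n))).symm

/-- Commutation from finitely many translates and one relation. -/
theorem commute_fin {D : ℕ} (hD : 0 < D) (h1 : ∀ i < D, Commute (cj u h 0) (cj u h (i : ℕ)))
    (hgen : cj u h D ∈ Subgroup.closure ((fun i : ℕ => cj u h i) '' Set.Iio D)) (i j : ℤ) :
    Commute (cj u h i) (cj u h j) := by
  set V := Subgroup.closure ((fun i : ℕ => cj u h i) '' Set.Iio D)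
  have hV : ∀ x ∈ V, h * x * h⁻¹ ∈ V := by
    refine conj_le _ ?_
    rintro _ ⟨k, hk, rfl⟩
    show h * cj u h k * h⁻¹ ∈ V
    rw [← cj_succ, show 1 + (k : ℤ) = ((k + 1 : ℕ) : ℤ) by omega]
    rcases Nat.lt_or_ge (k + 1) D with hlt | hge
    · exact Subgroup.subset_closure ⟨k + 1, hlt, rfl⟩
    · rwa [show k + 1 = D by simp at hk; omega]
  have hle : V ≤ Subgroup.centralizer {cj u h 0} := by
    rw [Subgroup.closure_le]
    rintro _ ⟨k, hk, rfl⟩
    exact Subgroup.mem_centralizer_singleton_iff.2 (h1 k hk).symm.eq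
  refine commute_all_of_nat u h (fun n => ?_) i j
  have hu : u ∈ V := Subgroup.subset_closure ⟨0, hD, by simp [cj_zero]⟩
  exact (Subgroup.mem_centralizer_singleton_iff.1 (hle (cj_nat_mem u h hu hV n))).symm

/-- The translates are centralised by `Zs`, which `h` normalises. -/
structure Pre (G : Type*) [Group G] where
  u : G
  h : G
  Zs : Subgroup G
  N : ℕ
  hN : 0 < N
  hper : h ^ N = 1
  hZh : ∀ x ∈ Zs, h * x * h⁻¹ ∈ Zs
  hcent : ∀ x ∈ Zs, ∀ i : ℤ, Commute x (cj u h i)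

namespace Pre

variable {G : Type*} [Group G] (S : Pre G)

/-- The ambient group of the quotient. -/
def amb : Subgroup G := Subgroup.closure ((S.Zs : Set G) ∪ {S.u, S.h})

theorem u_mem : S.u ∈ S.amb := Subgroup.subset_closure (Or.inr (Or.inl rfl))

theorem h_mem : S.h ∈ S.amb := Subgroup.subset_closure (Or.inr (Or.inr rfl))

theorem amb_le : S.amb ≤ Subgroup.normalizer S.Zs := by
  rw [amb, Subgroup.closure_le]
  rintro x (hx | rfl | rfl)
  · exact Subgroup.le_normalizer hx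
  · refine Subgroup.mem_normalizer_iff.2 fun y => ?_
    have hc : ∀ y ∈ S.Zs, S.u * y * S.u⁻¹ = y := fun y hy => by
      have := S.hcent y hy 0
      rw [cj_zero] at this
      rw [← this.eq, mul_inv_cancel_right]
    have hc' : ∀ y ∈ S.Zs, S.u⁻¹ * y * S.u = y := fun y hy => by
      have := S.hcent y hy 0
      rw [cj_zero] at this
      rw [mul_assoc, this.eq, inv_mul_cancel_left]
    refine ⟨fun hy => by rw [hc y hy]; exact hy, fun hy => ?_⟩
    have := hc' _ hy
    rw [show S.u⁻¹ * (S.u * y * S.u⁻¹) * S.u = y by group] at this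
    rwa [this]
  · refine Subgroup.mem_normalizer_iff.2 fun y => ⟨S.hZh y, fun hy => ?_⟩
    have := conj_pow_mem S.hZh (S.N - 1) _ hy
    rwa [show S.h ^ (S.N - 1) * (S.h * y * S.h⁻¹) * (S.h ^ (S.N - 1))⁻¹ =
        S.h ^ (S.N - 1 + 1) * y * (S.h ^ (S.N - 1 + 1))⁻¹ by rw [pow_succ]; group,
      Nat.sub_add_cancel S.hN, S.hper, one_mul, inv_one, mul_one] at this

theorem cj_mem (i : ℤ) : cj S.u S.h i ∈ S.amb :=
  mul_mem (mul_mem (zpow_mem S.h_mem i) S.u_mem) (inv_mem (zpow_mem S.h_mem i))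

/-- The root group inside the ambient group. -/
def Z0 : Subgroup S.amb := S.Zs.subgroupOf S.amb

instance : S.Z0.Normal := ⟨fun n hn g => (Subgroup.mem_normalizer_iff.1 (S.amb_le g.2) _).1 hn⟩

/-- The image of `u`. -/
def ub : S.amb ⧸ S.Z0 := QuotientGroup.mk' S.Z0 ⟨S.u, S.u_mem⟩

/-- The image of `h`. -/
def hb : S.amb ⧸ S.Z0 := QuotientGroup.mk' S.Z0 ⟨S.h, S.h_mem⟩

theorem cj_bar (i : ℤ) : cj S.ub S.hb i = QuotientGroup.mk' S.Z0 ⟨cj S.u S.h i, S.cj_mem i⟩ := by
  rw [show (⟨cj S.u S.h i, S.cj_mem i⟩ : S.amb) = cj (⟨S.u, S.u_mem⟩ : S.amb) ⟨S.h, S.h_mem⟩ i from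
    Subtype.ext (by simp [cj])]
  simp [cj, ub, hb]

theorem bar_eq_one {x : G} (hx : x ∈ S.amb) : QuotientGroup.mk' S.Z0 ⟨x, hx⟩ = 1 ↔ x ∈ S.Zs :=
  QuotientGroup.eq_one_iff _

theorem bar_commute {i j : ℤ} : Commute (cj S.ub S.hb i) (cj S.ub S.hb j) ↔
    ⁅cj S.u S.h i, cj S.u S.h j⁆ ∈ S.Zs := by
  rw [← commutatorElement_eq_one_iff_commute, S.cj_bar, S.cj_bar, ← map_commutatorElement]
  exact S.bar_eq_one _

theorem bar_word (f : ℤ[X]) : ∃ hm : word S.u S.h f ∈ S.amb,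
    QuotientGroup.mk' S.Z0 ⟨word S.u S.h f, hm⟩ = word S.ub S.hb f := by
  have e := map_word (⟨S.u, S.u_mem⟩ : S.amb) ⟨S.h, S.h_mem⟩ S.amb.subtype f
  have hm : word S.u S.h f ∈ S.amb :=
    (congrArg (· ∈ S.amb) e).mp (SetLike.coe_mem _)
  refine ⟨hm, ?_⟩
  rw [ub, hb, ← map_word]
  exact congrArg _ (Subtype.ext e.symm)

/-- The group of the root group and the translates. -/
def M : Subgroup G := Subgroup.closure ((S.Zs : Set G) ∪ Set.range (cj S.u S.h))

theorem M_le : S.M ≤ S.amb := by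
  rw [M, Subgroup.closure_le]
  rintro _ (hx | ⟨i, rfl⟩)
  · exact Subgroup.subset_closure (Or.inl hx)
  · exact S.cj_mem i

theorem conj_M {x : G} (hx : x ∈ S.M) : S.h * x * S.h⁻¹ ∈ S.M := by
  refine conj_le S.h ?_ x hx
  rintro _ (hy | ⟨i, rfl⟩)
  · exact Subgroup.subset_closure (Or.inl (S.hZh _ hy))
  · exact Subgroup.subset_closure (Or.inr ⟨1 + i, cj_succ _ _ i⟩)

/-- The bound. -/
theorem bound {F : Type*} [Field F] [Finite F] {p : ℕ} [Fact p.Prime] [CharP F p] {t : F} {f : ℤ[X]} [Finite S.Zs]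
    (hcomm : ∀ i j : ℤ, Commute (cj S.ub S.hb i) (cj S.ub S.hb j))
    (hf : f.map (Int.castRingHom (ZMod p)) = @minpoly (ZMod p) F _ _ (ZMod.algebra F p) t)
    (hsurj : Function.Surjective fun P : ℤ[X] => aeval t P)
    (hp : S.u ^ p ∈ S.Zs) (hw : word S.u S.h f ∈ S.Zs) :
    Finite S.M ∧ Nat.card S.M ≤ Nat.card S.Zs * Nat.card F := by
  classical
  obtain ⟨E, hadd, hX, h1, hW, -, hker, -⟩ := exists_eval_hom S.ub S.hb hcomm
  have hEp : E (C (p : ℤ)) = 1 := by
    rw [PSL2.Pres.E_natC hadd h1, ub, ← map_pow]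
    exact (QuotientGroup.eq_one_iff _).2 hp
  have hEf : E f = 1 := by
    obtain ⟨hm, e⟩ := S.bar_word f
    rw [← hW, ← e, S.bar_eq_one]; exact hw
  obtain ⟨v, hv, hvadd⟩ := exists_add_hom E hadd hker hEp hf hEf hsurj
  have hv0 : v 0 = 1 := by
    have h0 := hvadd 0 0
    rw [add_zero] at h0
    exact left_eq_mul.mp h0
  have hmem : ∀ x ∈ S.M, ∃ hx : x ∈ S.amb, ∃ r, QuotientGroup.mk' S.Z0 ⟨x, hx⟩ = v r := by
    intro x hx
    induction hx using Subgroup.closure_induction with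
    | mem x hx =>
      rcases hx with hx | ⟨i, rfl⟩
      · have hxa : x ∈ S.amb := Subgroup.subset_closure (Or.inl hx)
        exact ⟨hxa, 0, ((S.bar_eq_one hxa).2 hx).trans hv0.symm⟩
      · obtain ⟨n, hn⟩ := cj_periodic S.u S.h S.hN S.hper i
        refine ⟨S.cj_mem i, t ^ n, ?_⟩
        have : (⟨cj S.u S.h i, S.cj_mem i⟩ : S.amb) = ⟨cj S.u S.h n, S.cj_mem n⟩ := Subtype.ext hn
        rw [this, ← S.cj_bar, ← E_pow hX h1 n, ← hv, map_pow, aeval_X]
    | one => exact ⟨one_mem _, 0, by rw [hv0]; exact map_one _⟩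
    | mul x y _ _ hx hy =>
      obtain ⟨hx, r, e⟩ := hx
      obtain ⟨hy, s, e'⟩ := hy
      exact ⟨mul_mem hx hy, r + s, by rw [hvadd, ← e, ← e', ← map_mul]; rfl⟩
    | inv x _ hx =>
      obtain ⟨hx, r, e⟩ := hx
      refine ⟨inv_mem hx, -r, ?_⟩
      have h0 : v r * v (-r) = 1 := by rw [← hvadd, add_neg_cancel, hv0]
      rw [← inv_eq_of_mul_eq_one_right h0, ← e, ← map_inv]; rfl
  have hlift : ∀ r : F, ∃ y : S.M, (∃ x ∈ S.M, ∃ hx : x ∈ S.amb, QuotientGroup.mk' S.Z0 ⟨x, hx⟩ = v r) →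
      QuotientGroup.mk' S.Z0 ⟨(y : G), S.M_le y.2⟩ = v r := by
    intro r
    by_cases hr : ∃ x ∈ S.M, ∃ hx : x ∈ S.amb, QuotientGroup.mk' S.Z0 ⟨x, hx⟩ = v r
    · obtain ⟨x, hxM, hx, e⟩ := hr
      exact ⟨⟨x, hxM⟩, fun _ => e⟩
    · exact ⟨1, fun h => absurd h hr⟩
  choose L hL using hlift
  let π : S.Zs × F → S.M := fun zr =>
    ⟨(L zr.2 : G) * zr.1, mul_mem (L zr.2).2 (Subgroup.subset_closure (Or.inl zr.1.2))⟩
  have hπ : Function.Surjective π := by
    rintro ⟨x, hxM⟩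
    obtain ⟨hx, r, e⟩ := hmem x hxM
    have h2 := hL r ⟨x, hxM, hx, e⟩
    have hz : (L r : G)⁻¹ * x ∈ S.Zs :=
      (QuotientGroup.eq (s := S.Z0) (a := ⟨(L r : G), S.M_le (L r).2⟩) (b := ⟨x, hx⟩)).1 (h2.trans e.symm)
    exact ⟨(⟨_, hz⟩, r), Subtype.ext (mul_inv_cancel_left _ _)⟩
  exact ⟨Finite.of_surjective π hπ, (Nat.card_le_card_of_surjective π hπ).trans_eq (Nat.card_prod _ _)⟩

end Pre

end Cfsg.Agent.SUPresent
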