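/-
The Bruhat bound for SU₃(q): one relation for each class of the multiplier gives all the others.

* `BD`: the data, in a group over SU₃(q).
* `BD.lift_all`: the unipotent parameters lift; `BD.spec_all`: every unipotent element has a Bruhat relation.
* `BD.card_le`: the group has at most `|SU₃(q)|` elements.
-/
import Cfsg.Agent.Lib.SUPresent.Three
import Cfsg.Agent.Lib.SUPresent.Heis

set_option autoImplicit false
set_option linter.unusedSectionVars false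

open scoped MatrixGroups
open Polynomial

namespace Cfsg.Agent.SUPresent

open Cfsg.Agent.Unitary Cfsg.Agent.RegUnip.SU Cfsg.Agent.RegUnip.SU3
open Cfsg.Agent.PSL2 (upT)
open Cfsg.Agent.PSL2.Pres (dg wM cj cj_zero cj_add upT_add)

variable {F : Type*} [Field F] [Fintype F] {q : ℕ} {hF : Fintype.card F = q ^ 2}

local notation "σ" => Cfsg.Agent.Unitary.conjHom hF

variable (hF) in
/-- The data. -/
structure BD (θ : Fˣ) (δ : F) (hδ : δ ≠ 0) (hσ : Cfsg.Agent.Unitary.conjHom hF δ = -δ) (b1 : F) (G : Type*)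
    [Group G] where
  π : G →* Cfsg.SU 3 F q
  u : G
  h : G
  E : SL(2, fixedField hF) →* G
  hθ : ∀ x : Fˣ, x ∈ Subgroup.zpowers θ
  hb1 : b1 + Cfsg.Agent.Unitary.conjHom hF b1 + 1 = 0
  gen_eta : Function.Surjective fun P : ℤ[X] => aeval (eta q (θ : F)) P
  πu : π u = uE hF 1 b1
  πh : π h = hE hF θ
  πE : ∀ A, π (E A) = emb hδ hσ A
  Qg : Subgroup G
  Qg_eq : Qg = Subgroup.closure (Set.range (fun r => E (upT r)) ∪ Set.range (cj u h))
  Qg_card : Finite Qg ∧ Nat.card Qg ≤ q ^ 3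
  Qg_conj : ∀ x ∈ Qg, h * x * h⁻¹ ∈ Qg
  hnorm : ∀ x : (fixedField hF)ˣ, ((x : fixedField hF) : F) = (θ : F) * Cfsg.Agent.Unitary.conjHom hF θ →
    h ^ (q + 1) = E (dg x)
  ht : E wM * h * (E wM)⁻¹ = (h ^ q)⁻¹
  base : ∀ j < gg q, ∀ a b : F, a = (θ : F) ^ j → b + Cfsg.Agent.Unitary.conjHom hF b + a * Cfsg.Agent.Unitary.conjHom hF a = 0 →
    (∃ k : fixedField hF, b = δ * (θ : F) * (k : F)) → ∀ x ∈ Qg, π x = uE hF a b →
      ∃ y1 ∈ Qg, ∃ τ ∈ Subgroup.zpowers h, ∃ y2 ∈ Qg, E wM * x * (E wM)⁻¹ = y1 * τ * E wM * y2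
  gen : Subgroup.closure ((Qg : Set G) ∪ {h, E wM}) = ⊤

theorem N_pos (hF : Fintype.card F = q ^ 2) : 0 < q ^ 2 - 1 := by
  have : 4 ≤ q ^ 2 := Nat.pow_le_pow_left (two_le_q hF) 2
  omega

namespace BD

variable {θ : Fˣ} {δ : F} {hδ : δ ≠ 0} {hσ : Cfsg.Agent.Unitary.conjHom hF δ = -δ} {b1 : F} {G : Type*} [Group G]
  (S : BD hF θ δ hδ hσ b1 G)

/-- The Weyl element. -/
def t : G := S.E wM


/-- The torus. -/
def T : Subgroup G := Subgroup.zpowers S.h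

theorem upT_mem (r : fixedField hF) : S.E (upT r) ∈ S.Qg := by
  rw [S.Qg_eq]; exact Subgroup.subset_closure (Or.inl ⟨r, rfl⟩)

theorem u_mem : S.u ∈ S.Qg := by
  rw [S.Qg_eq]; exact Subgroup.subset_closure (Or.inr ⟨0, cj_zero _ _⟩)

theorem cj_mem (i : ℤ) : cj S.u S.h i ∈ S.Qg := by
  rw [S.Qg_eq]; exact Subgroup.subset_closure (Or.inr ⟨i, rfl⟩)

theorem π_cj (i : ℕ) : S.π (cj S.u S.h i) = uE hF (eta q (θ : F) ^ i) (((θ : F) * σ θ) ^ i * b1) ∧
    ((θ : F) * σ θ) ^ i * b1 + σ (((θ : F) * σ θ) ^ i * b1) + eta q (θ : F) ^ i * σ (eta q (θ : F) ^ i) = 0 := by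
  induction i with
  | zero =>
    rw [Nat.cast_zero, cj_zero, pow_zero, pow_zero, one_mul, map_one, mul_one]
    exact ⟨S.πu, S.hb1⟩
  | succ i ih =>
    obtain ⟨h1, h2⟩ := ih
    have hp := par_scale h2 (θ : F) θ.ne_zero
    constructor
    · rw [show ((i + 1 : ℕ) : ℤ) = 1 + (i : ℤ) by omega, cj_succ, map_mul, map_mul, map_inv, h1, S.πh, hE_uE θ h2,
        pow_succ', pow_succ']
      simp only [mul_assoc]
    · rw [pow_succ', pow_succ', mul_assoc ((θ : F) * σ θ)]; exact hp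

theorem lift_all {a b : F} (h : b + σ b + a * σ a = 0) : ∃ x ∈ S.Qg, S.π x = uE hF a b := by
  let A : AddSubgroup F :=
    { carrier := {a | ∃ b, b + σ b + a * σ a = 0 ∧ ∃ x ∈ S.Qg, S.π x = uE hF a b}
      zero_mem' := ⟨0, by simp [-conjHom_apply], 1, one_mem _, by rw [map_one, uE_zero]⟩
      add_mem' := by
        rintro a c ⟨b, hb, x, hx, ex⟩ ⟨e, he, y, hy, ey⟩
        exact ⟨_, par_mul hb he, x * y, mul_mem hx hy, by rw [map_mul, ex, ey, uE_mul hb he]⟩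
      neg_mem' := by
        rintro a ⟨b, hb, x, hx, ex⟩
        exact ⟨σ b, by rw [σσ hF, map_neg]; linear_combination hb, x⁻¹, inv_mem hx, by rw [map_inv, ex, uE_inv hb]⟩ }
  have hpow : ∀ i : ℕ, eta q (θ : F) ^ i ∈ A := fun i =>
    ⟨_, (S.π_cj i).2, _, S.cj_mem i, (S.π_cj i).1⟩
  have ha : a ∈ A := by
    obtain ⟨P, rfl⟩ := S.gen_eta a
    show aeval (eta q (θ : F)) P ∈ A
    rw [aeval_eq_sum_range]
    exact sum_mem fun i _ => AddSubgroup.zsmul_mem A (hpow i) _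
  obtain ⟨b', hb', x, hx, ex⟩ := ha
  have hK : ((b - b') / δ) ^ q = (b - b') / δ := by
    have : σ ((b - b') / δ) = (b - b') / δ := by
      rw [map_div₀, map_sub, hσ, show σ b - σ b' = -(b - b') by linear_combination h - hb', neg_div_neg_eq]
    exact this
  refine ⟨x * S.E (upT ⟨(b - b') / δ, hK⟩), mul_mem hx (S.upT_mem _), ?_⟩
  have h0 : δ * ((b - b') / δ) + σ (δ * ((b - b') / δ)) + 0 * σ 0 = 0 := by
    rw [map_mul, hσ, show σ ((b - b') / δ) = (b - b') / δ from hK]; ring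
  rw [map_mul, ex, S.πE, emb_upT, uE_mul hb' h0]
  congr 1
  · ring
  · show b' + δ * ((b - b') / δ) - 0 * σ a = b
    rw [mul_div_cancel₀ _ hδ]; ring

theorem Qg_finite : Finite S.Qg := S.Qg_card.1

theorem inj {x y : G} (hx : x ∈ S.Qg) (hy : y ∈ S.Qg) (e : S.π x = S.π y) : x = y := by
  classical
  haveI := S.Qg_finite
  have hq := two_le_q hF
  have : Nonempty S.Qg := ⟨1⟩
  choose L hL using fun z : Qpar F q => S.lift_all (hF := hF) (a := z.1.1) (b := z.1.2) z.2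
  let f : Qpar F q → S.Qg := fun z => ⟨L z, (hL z).1⟩
  have hf : Function.Injective f := fun z z' e => by
    have := congrArg (fun w : S.Qg => S.π w) e
    simp only [f] at this
    rw [(hL z).2, (hL z').2] at this
    obtain ⟨h1, h2⟩ := uE_inj z.2 z'.2 this
    exact Subtype.ext (Prod.ext h1 h2)
  haveI := Fintype.ofFinite S.Qg
  haveI := Fintype.ofFinite (Qpar F q)
  have hbij : Function.Bijective f := by
    refine (Fintype.bijective_iff_injective_and_card f).2 ⟨hf, le_antisymm (Fintype.card_le_of_injective f hf) ?_⟩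
    rw [← Nat.card_eq_fintype_card, ← Nat.card_eq_fintype_card, card_Qpar hF]
    exact S.Qg_card.2
  obtain ⟨z, hz⟩ := hbij.2 ⟨x, hx⟩
  obtain ⟨z', hz'⟩ := hbij.2 ⟨y, hy⟩
  have ex : L z = x := congrArg Subtype.val hz
  have ey : L z' = y := congrArg Subtype.val hz'
  rw [← ex, ← ey, (hL z).2, (hL z').2] at e
  obtain ⟨h1, h2⟩ := uE_inj z.2 z'.2 e
  rw [← ex, ← ey, show z = z' from Subtype.ext (Prod.ext h1 h2)]

theorem par_of_mem {x : G} (hx : x ∈ S.Qg) : ∃ a b : F, b + σ b + a * σ a = 0 ∧ S.π x = uE hF a b := by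
  rw [S.Qg_eq] at hx
  induction hx using Subgroup.closure_induction with
  | mem x hx =>
    rcases hx with ⟨r, rfl⟩ | ⟨i, rfl⟩
    · refine ⟨0, δ * (r : F), ?_, by rw [S.πE, emb_upT]⟩
      rw [map_mul, hσ, σ_coe, map_zero]; ring
    · have key : ∀ (g : Fˣ) (a b : F), b + σ b + a * σ a = 0 →
          ∃ a' b', b' + σ b' + a' * σ a' = 0 ∧ hE hF g * uE hF a b * (hE hF g)⁻¹ = uE hF a' b' :=
        fun g a b h => ⟨_, _, par_scale h _ g.ne_zero, hE_uE g h⟩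
      have hb : b1 + σ b1 + 1 * σ 1 = 0 := by rw [map_one, mul_one]; exact S.hb1
      obtain ⟨a', b', h', e⟩ := key (θ ^ i) 1 b1 hb
      exact ⟨a', b', h', by rw [cj, map_mul, map_mul, map_inv, map_zpow, S.πh, S.πu, ← map_zpow, e]⟩
  | one => exact ⟨0, 0, by simp [-conjHom_apply], by rw [map_one, uE_zero]⟩
  | mul x y _ _ hx hy =>
    obtain ⟨a, b, h, e⟩ := hx
    obtain ⟨c, d, h', e'⟩ := hy
    exact ⟨_, _, par_mul h h', by rw [map_mul, e, e', uE_mul h h']⟩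
  | inv x _ hx =>
    obtain ⟨a, b, h, e⟩ := hx
    exact ⟨-a, σ b, by rw [σσ hF, map_neg]; linear_combination h, by rw [map_inv, e, uE_inv h]⟩

theorem h_per : S.h ^ (q ^ 2 - 1) = 1 := by
  have hn : ((θ : F) * σ θ) ^ q = (θ : F) * σ θ := by
    rw [mul_pow, conjHom_apply, pow_q_pow_q hF, mul_comm]
  have hn0 : (⟨_, hn⟩ : fixedField hF) ≠ 0 := fun e =>
    mul_ne_zero θ.ne_zero ((map_ne_zero σ).2 θ.ne_zero) (congrArg Subtype.val e)
  rw [show q ^ 2 - 1 = (q + 1) * (q - 1) by simpa using Nat.sq_sub_sq q 1, pow_mul,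
    S.hnorm (Units.mk0 _ hn0) rfl, ← map_pow, ← map_pow]
  have : Units.mk0 (⟨_, hn⟩ : fixedField hF) hn0 ^ (q - 1) = 1 := by
    apply Units.ext
    apply Subtype.ext
    simp only [Units.val_pow_eq_pow_val, Units.val_mk0, SubmonoidClass.coe_pow, Units.val_one, OneMemClass.coe_one]
    exact (fixed_iff hF (mul_ne_zero θ.ne_zero ((map_ne_zero σ).2 θ.ne_zero))).1 hn
  rw [this, map_one, map_one]

theorem T_pow {τ : G} (hτ : τ ∈ S.T) : ∃ n : ℕ, τ = S.h ^ n := by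
  obtain ⟨i, rfl⟩ := hτ
  refine ⟨(i % ((q ^ 2 - 1 : ℕ) : ℤ)).toNat, ?_⟩
  have hpos := (N_pos hF)
  show S.h ^ i = _
  rw [← zpow_natCast, Int.toNat_of_nonneg (Int.emod_nonneg i (by omega))]
  conv_lhs => rw [← Int.emod_add_mul_ediv i ((q ^ 2 - 1 : ℕ) : ℤ)]
  rw [zpow_add, zpow_mul, zpow_natCast, S.h_per, one_zpow, mul_one]

theorem T_conj {τ x : G} (hτ : τ ∈ S.T) (hx : x ∈ S.Qg) : τ * x * τ⁻¹ ∈ S.Qg := by
  obtain ⟨n, rfl⟩ := S.T_pow hτ
  exact conj_pow_mem S.Qg_conj n x hx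

theorem dg_mem (x : (fixedField hF)ˣ) : S.E (dg x) ∈ S.T := by
  have hn : ((θ : F) * σ θ) ^ q = (θ : F) * σ θ := by
    rw [mul_pow, conjHom_apply, pow_q_pow_q hF, mul_comm]
  have hn0 : (⟨_, hn⟩ : fixedField hF) ≠ 0 := fun e =>
    mul_ne_zero θ.ne_zero ((map_ne_zero σ).2 θ.ne_zero) (congrArg Subtype.val e)
  obtain ⟨y, hy⟩ := exists_norm_eq hF (c := ((x : fixedField hF) : F)) x.1.2
  have hy0 : y ≠ 0 := fun e => x.ne_zero (Subtype.ext (by rw [e, zero_pow (Nat.succ_ne_zero q)] at hy; exact hy.symm))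
  obtain ⟨m, rfl⟩ := PSL2.Pres.exists_pow_eq S.hθ y hy0
  have : x = Units.mk0 _ hn0 ^ m := by
    apply Units.ext
    apply Subtype.ext
    simp only [Units.val_pow_eq_pow_val, Units.val_mk0, SubmonoidClass.coe_pow]
    rw [← hy, conjHom_apply, ← pow_succ', ← pow_mul, ← pow_mul, mul_comm]
  rw [this, map_pow, map_pow, ← S.hnorm (Units.mk0 _ hn0) rfl]
  exact pow_mem (pow_mem (Subgroup.mem_zpowers _) _) _

theorem t_conj {τ : G} (hτ : τ ∈ S.T) : S.t * τ * S.t⁻¹ ∈ S.T := by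
  obtain ⟨i, rfl⟩ := hτ
  show S.E wM * S.h ^ i * (S.E wM)⁻¹ ∈ S.T
  rw [← conj_zpow, S.ht]
  exact zpow_mem (inv_mem (pow_mem (Subgroup.mem_zpowers _) _)) _

theorem t_sq : S.t * S.t ∈ S.T := by
  show S.E wM * S.E wM ∈ S.T
  rw [← map_mul, PSL2.Pres.wM_sq]; exact S.dg_mem _

/-- Elements with a Bruhat relation. -/
def Spec (a b : F) : Prop :=
  ∀ x ∈ S.Qg, S.π x = uE hF a b → ∃ y1 ∈ S.Qg, ∃ τ ∈ S.T, ∃ y2 ∈ S.Qg, S.t * x * S.t⁻¹ = y1 * τ * S.t * y2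

/-- The big cell. -/
def X1 : Set G := {g | ∃ y ∈ S.Qg, ∃ τ ∈ S.T, ∃ y' ∈ S.Qg, g = y * τ * S.t * y'}

/-- The small cell. -/
def X0 : Set G := {g | ∃ y ∈ S.Qg, ∃ τ ∈ S.T, g = y * τ}

theorem X1_right {g : G} (hg : g ∈ S.X1) {y τ : G} (hy : y ∈ S.Qg) (hτ : τ ∈ S.T) : g * y * τ ∈ S.X1 := by
  obtain ⟨y0, hy0, τ0, hτ0, y', hy', rfl⟩ := hg
  refine ⟨y0, hy0, τ0 * (S.t * τ * S.t⁻¹), mul_mem hτ0 (S.t_conj hτ), τ⁻¹ * (y' * y) * τ, ?_, by group⟩
  have := S.T_conj (inv_mem hτ) (mul_mem hy' hy)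
  rwa [inv_inv] at this

theorem X1_left {g : G} (hg : g ∈ S.X1) {y τ : G} (hy : y ∈ S.Qg) (hτ : τ ∈ S.T) : y * τ * g ∈ S.X1 := by
  obtain ⟨y0, hy0, τ0, hτ0, y', hy', rfl⟩ := hg
  exact ⟨y * (τ * y0 * τ⁻¹), mul_mem hy (S.T_conj hτ hy0), τ * τ0, mul_mem hτ hτ0, y', hy', by group⟩

/-- Left and right cells give a Bruhat relation. -/
theorem spec_conj {x τ : G} (hτ : τ ∈ S.T) (h : S.t * x * S.t⁻¹ ∈ S.X1) : S.t * (τ * x * τ⁻¹) * S.t⁻¹ ∈ S.X1 := by
  have := S.X1_right (S.X1_left h (one_mem _) (S.t_conj hτ)) (one_mem _) (inv_mem (S.t_conj hτ))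
  convert this using 1
  group

theorem spec_eta {a b : F} (hab : b + σ b + a * σ a = 0) (h : S.Spec a b) (i : ℕ) :
    S.Spec (eta q ((θ ^ i : Fˣ) : F) * a) (((θ ^ i : Fˣ) : F) * σ ((θ ^ i : Fˣ) : F) * b) := by
  intro x hx ex
  have hi : S.h ^ i ∈ S.T := pow_mem (Subgroup.mem_zpowers _) _
  have hx' : (S.h ^ i)⁻¹ * x * ((S.h ^ i)⁻¹)⁻¹ ∈ S.Qg := S.T_conj (inv_mem hi) hx
  have e : S.π ((S.h ^ i)⁻¹ * x * ((S.h ^ i)⁻¹)⁻¹) = uE hF a b := by
    rw [inv_inv, map_mul, map_mul, map_inv, map_pow, ex, S.πh, ← map_pow, ← hE_uE (θ ^ i) hab]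
    group
  have := S.spec_conj hi (h _ hx' e)
  show S.t * x * S.t⁻¹ ∈ S.X1
  rwa [show S.h ^ i * ((S.h ^ i)⁻¹ * x * (S.h ^ i)⁻¹⁻¹) * (S.h ^ i)⁻¹ = x by group] at this

theorem eta_pow (i : ℕ) : eta q ((θ ^ i : Fˣ) : F) = eta q (θ : F) ^ i := by
  rw [eta, eta, Units.val_pow_eq_pow_val, div_pow, ← pow_mul, ← pow_mul, ← pow_mul, ← pow_mul]
  congr 2; ring

/-- The unit version of Bruhat in SL₂. -/
theorem rank_one (r : (fixedField hF)ˣ) :
    wM * upT (r : fixedField hF) * (wM : SL(2, fixedField hF))⁻¹ =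
      upT (-((r⁻¹ : (fixedField hF)ˣ) : fixedField hF)) * dg r⁻¹ * wM *
        upT (-((r⁻¹ : (fixedField hF)ˣ) : fixedField hF)) := by
  rw [mul_inv_eq_iff_eq_mul]
  refine Subtype.ext ?_
  simp only [Matrix.SpecialLinearGroup.coe_mul, PSL2.Pres.upT_coe, PSL2.Pres.dg_coe, PSL2.Pres.wM_coe, inv_inv]
  ext i j
  fin_cases i <;> fin_cases j <;> simp [Matrix.mul_apply, Fin.sum_univ_two]

/-- The bottom row of a Bruhat relation. -/
theorem y2_param {a b : F} (hab : b + σ b + a * σ a = 0) (hb : b ≠ 0) {x y1 τ y2 : G}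
    (hy1 : y1 ∈ S.Qg) (hτ : τ ∈ S.T) (hy2 : y2 ∈ S.Qg) (ex : S.π x = uE hF a b)
    (e : S.t * x * S.t⁻¹ = y1 * τ * S.t * y2) :
    ∃ a2 b2 : F, b2 + σ b2 + a2 * σ a2 = 0 ∧ S.π y2 = uE hF a2 b2 ∧ σ a2 = δ * σ a / b ∧ b2 = -(δ ^ 2) / b := by
  obtain ⟨a1, b1', h1, e1⟩ := S.par_of_mem hy1
  obtain ⟨a2, b2, h2, e2⟩ := S.par_of_mem hy2
  obtain ⟨i, rfl⟩ := hτ
  refine ⟨a2, b2, h2, e2, ?_⟩
  have et : S.π S.t = emb hδ hσ wM := S.πE wM
  have e' := congrArg S.π (mul_inv_eq_iff_eq_mul.1 e)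
  simp only [map_mul, map_zpow, S.πh, ex, e1, e2, et] at e'
  rw [← map_zpow] at e'
  have hM := congrArg (co hF) e'
  rw [co_mul, co_uE hab, co_emb, co_mul, co_mul, co_mul, co_mul, co_uE h1, co_uE h2, co_hE, co_emb] at hM
  set z : F := ((θ ^ i : Fˣ) : F)
  have hz : z ≠ 0 := Units.ne_zero _
  have hσz : σ z ≠ 0 := (map_ne_zero σ).2 hz
  have r0 := congrFun (congrFun hM 2) 2
  have r1 := congrFun (congrFun hM 2) 1
  have r2 := congrFun (congrFun hM 2) 0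
  simp [Lm, dd, uu, PSL2.Pres.wM_coe, Matrix.mul_apply, Fin.sum_univ_three, -conjHom_apply] at r0 r1 r2
  field_simp at r0 r1 r2
  have hσzb : σ z * b = δ := by linear_combination -r0
  constructor
  · rw [eq_div_iff hb]
    linear_combination b * r1 + σ a * hσzb
  · rw [eq_div_iff hb]
    linear_combination -b * r2 - δ * hσzb

theorem spec_step {a b b' : F} (hab : b + σ b + a * σ a = 0) (hab' : b' + σ b' + a * σ a = 0) (ha : a ≠ 0)
    (hb : b ≠ 0) (hne : b' ≠ b) (h : S.Spec a b)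
    (h' : ∀ a2 b2 : F, a2 ≠ 0 → b2 + σ b2 + a2 * σ a2 = 0 → b2 = -(δ ^ 2) * b' / (b * (b' - b)) → S.Spec a2 b2) :
    S.Spec a b' := by
  intro x hx ex
  obtain ⟨x0, hx0, ex0⟩ := S.lift_all hab
  have hεσ : σ (b' - b) = -(b' - b) := by rw [map_sub]; linear_combination hab' - hab
  have hr : ((b' - b) / δ) ^ q = (b' - b) / δ := by
    show σ ((b' - b) / δ) = _
    rw [map_div₀, hεσ, hσ, neg_div_neg_eq]
  have hr0 : (⟨_, hr⟩ : fixedField hF) ≠ 0 := fun e =>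
    div_ne_zero (sub_ne_zero.2 hne) hδ (congrArg Subtype.val e)
  set r := Units.mk0 (⟨_, hr⟩ : fixedField hF) hr0
  have hpar0 : δ * ((b' - b) / δ) + σ (δ * ((b' - b) / δ)) + 0 * σ 0 = 0 := by
    rw [mul_div_cancel₀ _ hδ, hεσ]; ring
  have hxe : x = x0 * S.E (upT (r : fixedField hF)) := by
    refine S.inj hx (mul_mem hx0 (S.upT_mem _)) ?_
    rw [ex, map_mul, ex0, S.πE, emb_upT, show ((r : fixedField hF) : F) = (b' - b) / δ from rfl, uE_mul hab hpar0]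
    congr 1
    · ring
    · rw [mul_div_cancel₀ _ hδ]; ring
  obtain ⟨y1, hy1, τ, hτ, y2, hy2, e⟩ := h x0 hx0 ex0
  obtain ⟨a2, b2, hab2, e2, ha2, hb2⟩ := S.y2_param hab hb hy1 hτ hy2 ex0 e
  set z1 := S.E (upT (-((r⁻¹ : (fixedField hF)ˣ) : fixedField hF)))
  have hrone : S.t * S.E (upT (r : fixedField hF)) * S.t⁻¹ = z1 * S.E (dg r⁻¹) * S.t * z1 := by
    rw [BD.t, ← map_inv, ← map_mul, ← map_mul, rank_one r, map_mul, map_mul, map_mul]
  have ha2' : a2 ≠ 0 := fun e0 => by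
    rw [e0, map_zero] at ha2
    exact ((div_ne_zero (mul_ne_zero hδ ((map_ne_zero σ).2 ha)) hb) ha2.symm).elim
  have hval : ((-((r⁻¹ : (fixedField hF)ˣ) : fixedField hF) : fixedField hF) : F) = -(δ / (b' - b)) := by
    rw [Units.val_inv_eq_inv_val]
    show -(((b' - b) / δ)⁻¹) = _
    rw [inv_div]
  have hz1 : δ * -(δ / (b' - b)) + σ (δ * -(δ / (b' - b))) + 0 * σ 0 = 0 := by
    rw [map_mul, map_neg, map_div₀, hσ, hεσ, neg_div_neg_eq]; ring
  have hmid : S.t * (y2 * z1) * S.t⁻¹ ∈ S.X1 := by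
    refine h' a2 (b2 + δ * -(δ / (b' - b))) ha2' ?_ ?_ _ (mul_mem hy2 (S.upT_mem _)) ?_
    · rw [map_add]; linear_combination hab2 + hz1
    · rw [hb2]; field_simp [sub_ne_zero.2 hne]; ring
    · rw [map_mul, e2, S.πE, emb_upT, hval, uE_mul hab2 hz1]
      congr 1
      · ring
      · ring
  show S.t * x * S.t⁻¹ ∈ S.X1
  have key : S.t * x * S.t⁻¹ = y1 * τ * ((S.t * (y2 * z1) * S.t⁻¹) * 1 * (S.t * S.E (dg r⁻¹) * S.t⁻¹ * (S.t * S.t))) * z1 * 1 := by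
    rw [hxe, show S.t * (x0 * S.E (upT (r : fixedField hF))) * S.t⁻¹ =
      (S.t * x0 * S.t⁻¹) * (S.t * S.E (upT (r : fixedField hF)) * S.t⁻¹) by group, e, hrone]
    group
  rw [key]
  exact S.X1_right (S.X1_left (S.X1_right hmid (one_mem _) (mul_mem (S.t_conj (S.dg_mem _)) S.t_sq)) hy1 hτ)
    (S.upT_mem _) (one_mem _)

include S in
theorem theta_notK : σ (θ : F) ≠ θ ∨ q < 2 := by
  by_contra hc
  push Not at hc
  have hall : ∀ x : F, x ^ q = x := fun x => by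
    rcases eq_or_ne x 0 with rfl | hx
    · exact zero_pow_q hF
    · obtain ⟨m, rfl⟩ := PSL2.Pres.exists_pow_eq S.hθ x hx
      rw [← pow_mul, mul_comm, pow_mul]
      exact congrArg (· ^ m) hc.1
  have h := card_fixed hF
  rw [Nat.card_congr (Equiv.subtypeUnivEquiv hall), Nat.card_eq_fintype_card, hF] at h
  have := two_le_q hF
  nlinarith

include S in
/-- A class meets every trace. -/
theorem exists_class {a : F} (ha : a ≠ 0) :
    ∃ k : fixedField hF, k ≠ 0 ∧ δ * (θ : F) * (k : F) + σ (δ * (θ : F) * (k : F)) + a * σ a = 0 := by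
  have hne : δ * ((θ : F) - σ θ) ≠ 0 := by
    refine mul_ne_zero hδ (sub_ne_zero.2 fun e => ?_)
    rcases S.theta_notK with h | h
    · exact h e.symm
    · have := two_le_q hF; omega
  have hN : a * σ a ≠ 0 := mul_ne_zero ha ((map_ne_zero σ).2 ha)
  have hk : σ (-(a * σ a) / (δ * ((θ : F) - σ θ))) = -(a * σ a) / (δ * ((θ : F) - σ θ)) := by
    rw [map_div₀, map_neg, σ_norm hF, map_mul, map_sub, σσ hF, hσ]
    congr 1; ring
  refine ⟨⟨_, hk⟩, fun e => div_ne_zero (neg_ne_zero.2 hN) hne (congrArg Subtype.val e), ?_⟩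
  rw [map_mul, map_mul, hσ, σ_coe]
  have e1 : δ * ((θ : F) - σ θ) * (-(a * σ a) / (δ * ((θ : F) - σ θ))) = -(a * σ a) := mul_div_cancel₀ _ hne
  linear_combination e1

include S in
theorem class_unique {a b b' : F} (h : b + σ b + a * σ a = 0) (h' : b' + σ b' + a * σ a = 0) {k k' : fixedField hF}
    (e : b = δ * (θ : F) * (k : F)) (e' : b' = δ * (θ : F) * (k' : F)) : b = b' := by
  subst e e'
  rw [map_mul, map_mul, hσ, σ_coe] at h h'
  have hne : (θ : F) - σ θ ≠ 0 := by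
    refine sub_ne_zero.2 fun e => ?_
    rcases S.theta_notK with h | h
    · exact h e.symm
    · have := two_le_q hF; omega
  have : δ * ((θ : F) - σ θ) * ((k : F) - (k' : F)) = 0 := by linear_combination h - h'
  rw [sub_eq_zero.1 ((mul_eq_zero.1 this).resolve_left (mul_ne_zero hδ hne))]

theorem spec_one {a : F} (ha : a ≠ 0) {b : F} (hab : b + σ b + a * σ a = 0) {k : fixedField hF}
    (e : b = δ * (θ : F) * (k : F)) : S.Spec a b := by
  obtain ⟨i, j, hj, rfl⟩ := pow_cover hF S.hθ ha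
  obtain ⟨k0, -, h0⟩ := S.exists_class (a := (θ : F) ^ j) (pow_ne_zero _ θ.ne_zero)
  have hbase : S.Spec ((θ : F) ^ j) (δ * (θ : F) * (k0 : F)) := fun x hx ex =>
    S.base j hj _ _ rfl h0 ⟨k0, rfl⟩ x hx ex
  have h1 := S.spec_eta h0 hbase i
  rw [eta_pow] at h1
  set z : F := ((θ ^ i : Fˣ) : F) with hz
  have hzn : σ (z * σ z) = z * σ z := σ_norm hF z
  have hp := par_scale h0 z (Units.ne_zero _)
  rw [hz, eta_pow, ← hz] at hp
  have : b = z * σ z * (δ * (θ : F) * (k0 : F)) := by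
    refine S.class_unique hab hp e (k' := ⟨_, hzn⟩ * k0) ?_
    show z * σ z * (δ * (θ : F) * (k0 : F)) = δ * (θ : F) * ((z * σ z) * (k0 : F))
    ring
  rwa [this]

theorem spec_class : ∀ n : ℕ, 1 ≤ n → ∀ a b : F, a ≠ 0 → b + σ b + a * σ a = 0 →
    (∃ k : fixedField hF, b = δ * (θ : F) ^ n * (k : F)) → S.Spec a b := by
  intro n hn
  induction n, hn using Nat.le_induction with
  | base =>
    rintro a b ha hab ⟨k, e⟩
    exact S.spec_one ha hab (k := k) (by rw [e, pow_one])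
  | succ n hn ih =>
    rintro a b' ha hab' ⟨k', e'⟩
    obtain ⟨k, hk0, hab⟩ := S.exists_class ha
    set b := δ * (θ : F) * (k : F) with hb
    have hkF : (k : F) ≠ 0 := fun e => hk0 (Subtype.ext e)
    have hb0 : b ≠ 0 := mul_ne_zero (mul_ne_zero hδ θ.ne_zero) hkF
    rcases eq_or_ne b' b with rfl | hne
    · exact S.spec_one ha hab' (k := k) rfl
    refine S.spec_step hab hab' ha hb0 hne (S.spec_one ha hab rfl) fun a2 b2 ha2 h2 e2 => ih a2 b2 ha2 h2 ?_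
    have hεσ : σ (b' - b) = -(b' - b) := by rw [map_sub]; linear_combination hab' - hab
    have hK : σ (-(δ * (k' : F)) / ((k : F) * (b' - b))) = -(δ * (k' : F)) / ((k : F) * (b' - b)) := by
      rw [map_div₀, map_neg, map_mul, map_mul, hεσ, hσ, σ_coe, σ_coe, mul_neg, neg_mul, neg_div_neg_eq]
    refine ⟨⟨_, hK⟩, ?_⟩
    show b2 = δ * (θ : F) ^ n * (-(δ * (k' : F)) / ((k : F) * (b' - b)))
    have hθ0 : (θ : F) ≠ 0 := θ.ne_zero
    rw [e2]
    field_simp [sub_ne_zero.2 hne]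
    rw [e', hb]
    ring

theorem spec_all {a b : F} (ha : a ≠ 0) (hab : b + σ b + a * σ a = 0) : S.Spec a b := by
  have hb : b ≠ 0 := fun e => by
    rw [e, map_zero, zero_add, zero_add] at hab
    exact mul_ne_zero ha ((map_ne_zero σ).2 ha) hab
  obtain ⟨n, hn⟩ := PSL2.Pres.exists_pow_eq S.hθ (b / δ) (div_ne_zero hb hδ)
  refine S.spec_class (n + (q ^ 2 - 1)) (by have := (N_pos hF); omega) a b ha hab ⟨1, ?_⟩
  rw [pow_add, (pow_dvd_iff hF S.hθ _).2 dvd_rfl, mul_one, hn, mul_div_cancel₀ _ hδ]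
  simp

theorem t_Qg {x : G} (hx : x ∈ S.Qg) : S.t * x * S.t⁻¹ ∈ S.X1 ∨ x = 1 := by
  obtain ⟨a, b, hab, ex⟩ := S.par_of_mem hx
  by_cases ha : a = 0
  · subst ha
    have hbσ : σ b = -b := by rw [map_zero, mul_zero, add_zero] at hab; linear_combination hab
    have hr : σ (b / δ) = b / δ := by rw [map_div₀, hbσ, hσ, neg_div_neg_eq]
    have hxe : x = S.E (upT ⟨_, hr⟩) := by
      refine S.inj hx (S.upT_mem _) ?_
      rw [ex, S.πE, emb_upT]
      congr 1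
      exact (mul_div_cancel₀ b hδ).symm
    by_cases hb : b = 0
    · right
      refine S.inj hx (one_mem _) ?_
      rw [ex, map_one, hb, uE_zero]
    · left
      have hr0 : (⟨_, hr⟩ : fixedField hF) ≠ 0 := fun e => div_ne_zero hb hδ (congrArg Subtype.val e)
      set r := Units.mk0 (⟨_, hr⟩ : fixedField hF) hr0
      refine ⟨S.E (upT (-((r⁻¹ : (fixedField hF)ˣ) : fixedField hF))), S.upT_mem _, S.E (dg r⁻¹), S.dg_mem _,
        S.E (upT (-((r⁻¹ : (fixedField hF)ˣ) : fixedField hF))), S.upT_mem _, ?_⟩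
      rw [hxe, BD.t, ← map_inv, ← map_mul, ← map_mul]
      show S.E (wM * upT (r : fixedField hF) * wM⁻¹) = _
      rw [rank_one r, map_mul, map_mul, map_mul]
  · exact Or.inl (S.spec_all ha hab x hx ex)

theorem t_mul {g : G} (hg : g ∈ S.X0 ∪ S.X1) : S.t * g ∈ S.X0 ∪ S.X1 := by
  rcases hg with ⟨y, hy, τ, hτ, rfl⟩ | ⟨y, hy, τ, hτ, y', hy', rfl⟩
  · refine Or.inr ⟨1, one_mem _, S.t * τ * S.t⁻¹, S.t_conj hτ, τ⁻¹ * y * τ, ?_, by group⟩
    have := S.T_conj (inv_mem hτ) hy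
    rwa [inv_inv] at this
  · rcases S.t_Qg hy with h | rfl
    · refine Or.inr ?_
      have := S.X1_right (S.X1_right h (one_mem _) (mul_mem (S.t_conj hτ) S.t_sq)) hy' (one_mem _)
      convert this using 1
      group
    · refine Or.inl ⟨(S.t * τ * S.t⁻¹ * (S.t * S.t)) * y' * (S.t * τ * S.t⁻¹ * (S.t * S.t))⁻¹,
        S.T_conj (mul_mem (S.t_conj hτ) S.t_sq) hy', S.t * τ * S.t⁻¹ * (S.t * S.t),
        mul_mem (S.t_conj hτ) S.t_sq, by group⟩

theorem Q_mul {g y τ : G} (hy : y ∈ S.Qg) (hτ : τ ∈ S.T) (hg : g ∈ S.X0 ∪ S.X1) : y * τ * g ∈ S.X0 ∪ S.X1 := by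
  rcases hg with ⟨y', hy', τ', hτ', rfl⟩ | h
  · exact Or.inl ⟨y * (τ * y' * τ⁻¹), mul_mem hy (S.T_conj hτ hy'), τ * τ', mul_mem hτ hτ', by group⟩
  · exact Or.inr (S.X1_left h hy hτ)

theorem all_mem (g : G) : g ∈ S.X0 ∪ S.X1 := by
  have hg : g ∈ Subgroup.closure ((S.Qg : Set G) ∪ {S.h, S.E wM}) := S.gen ▸ Subgroup.mem_top g
  induction hg using Subgroup.closure_induction_left with
  | one => exact Or.inl ⟨1, one_mem _, 1, one_mem _, by group⟩
  | mul_left x hx y _ hy =>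
    rcases hx with hx | rfl | rfl
    · simpa using S.Q_mul hx (one_mem _) hy
    · simpa using S.Q_mul (one_mem _) (Subgroup.mem_zpowers _) hy
    · exact S.t_mul hy
  | inv_mul_cancel x hx y _ hy =>
    rcases hx with hx | rfl | rfl
    · simpa using S.Q_mul (inv_mem hx) (one_mem _) hy
    · simpa using S.Q_mul (one_mem _) (inv_mem (Subgroup.mem_zpowers _)) hy
    · have := S.Q_mul (one_mem _) (inv_mem S.t_sq) (S.t_mul hy)
      rwa [show (1 : G) * (S.t * S.t)⁻¹ * (S.t * y) = (S.E wM)⁻¹ * y by rw [BD.t]; group] at this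

include S in
/-- The group is no bigger than SU₃(q). -/
theorem card_le : Finite G ∧ Nat.card G ≤ Nat.card (Cfsg.SU 3 F q) := by
  classical
  haveI := S.Qg_finite
  let f : S.Qg × Fin (q ^ 2 - 1) × Option S.Qg → G := fun z =>
    (z.1 : G) * S.h ^ (z.2.1 : ℕ) * z.2.2.elim 1 (fun y => S.t * (y : G))
  have hf : Function.Surjective f := by
    have hpow : ∀ τ ∈ S.T, ∃ i : Fin (q ^ 2 - 1), τ = S.h ^ (i : ℕ) := fun τ hτ => by
      obtain ⟨n, rfl⟩ := S.T_pow hτ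
      refine ⟨⟨n % (q ^ 2 - 1), Nat.mod_lt _ (N_pos hF)⟩, ?_⟩
      conv_lhs => rw [← Nat.div_add_mod n (q ^ 2 - 1), pow_add, pow_mul, S.h_per, one_pow, one_mul]
    intro g
    rcases S.all_mem g with ⟨y, hy, τ, hτ, rfl⟩ | ⟨y, hy, τ, hτ, y', hy', rfl⟩
    · obtain ⟨i, rfl⟩ := hpow τ hτ
      exact ⟨(⟨y, hy⟩, i, none), by simp [f]⟩
    · obtain ⟨i, rfl⟩ := hpow τ hτ
      exact ⟨(⟨y, hy⟩, i, some ⟨y', hy'⟩), by simp [f, mul_assoc]⟩
  refine ⟨Finite.of_surjective f hf, (Nat.card_le_card_of_surjective f hf).trans ?_⟩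
  rw [Nat.card_prod, Nat.card_prod, Nat.card_fin, Finite.card_option, card_SU3 hF, ← mul_assoc]
  exact Nat.mul_le_mul (Nat.mul_le_mul_right _ S.Qg_card.2) (by have := S.Qg_card.2; omega)

end BD

end Cfsg.Agent.SUPresent
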