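/-
Facts about the model used by the presentation of SU₃(q).

* `InQ`: unipotent elements with a given coordinate; `inQ_cj`, `inQ_word`, `mem_Z`.
* `bruhat_model`: the Bruhat relation of a unipotent element.
* `mem_closure_Q`, `closure_top`: generation.
-/
import Cfsg.Agent.Lib.SUPresent.Bruhat

set_option autoImplicit false
set_option linter.unusedSectionVars false

open scoped MatrixGroups commutatorElement Matrix
open Polynomial

namespace Cfsg.Agent.SUPresent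

open Cfsg.Agent.Unitary Cfsg.Agent.RegUnip.SU Cfsg.Agent.RegUnip.SU3
open Cfsg.Agent.PSL2 (upT)
open Cfsg.Agent.PSL2.Pres (dg wM cj cj_zero word)

variable {F : Type*} [Field F] [Fintype F] {q : ℕ} {hF : Fintype.card F = q ^ 2}

local notation "σ" => Cfsg.Agent.Unitary.conjHom hF

variable (hF) in
/-- A unipotent element with first coordinate `a`. -/
def InQ (g : Cfsg.SU 3 F q) (a : F) : Prop :=
  ∃ b : F, b + Cfsg.Agent.Unitary.conjHom hF b + a * Cfsg.Agent.Unitary.conjHom hF a = 0 ∧ g = uE hF a b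

theorem inQ_one : InQ hF (1 : Cfsg.SU 3 F q) 0 := ⟨0, by simp [-conjHom_apply], uE_zero.symm⟩

theorem InQ.mul {g g' : Cfsg.SU 3 F q} {a c : F} (h : InQ hF g a) (h' : InQ hF g' c) : InQ hF (g * g') (a + c) := by
  obtain ⟨b, hb, rfl⟩ := h
  obtain ⟨e, he, rfl⟩ := h'
  exact ⟨_, par_mul hb he, uE_mul hb he⟩

theorem InQ.inv {g : Cfsg.SU 3 F q} {a : F} (h : InQ hF g a) : InQ hF g⁻¹ (-a) := by
  obtain ⟨b, hb, rfl⟩ := h
  exact ⟨σ b, by rw [σσ hF, map_neg]; linear_combination hb, uE_inv hb⟩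

theorem InQ.pow {g : Cfsg.SU 3 F q} {a : F} (h : InQ hF g a) : ∀ n : ℕ, InQ hF (g ^ n) (n * a)
  | 0 => by rw [pow_zero, Nat.cast_zero, zero_mul]; exact inQ_one
  | n + 1 => by rw [pow_succ, Nat.cast_succ, add_mul, one_mul]; exact (h.pow n).mul h

theorem InQ.zpow {g : Cfsg.SU 3 F q} {a : F} (h : InQ hF g a) (n : ℤ) : InQ hF (g ^ n) (n * a) := by
  rcases Int.eq_nat_or_neg n with ⟨m, rfl | rfl⟩
  · rw [zpow_natCast, Int.cast_natCast]; exact h.pow m
  · rw [zpow_neg, zpow_natCast, Int.cast_neg, Int.cast_natCast, neg_mul]; exact (h.pow m).inv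

theorem InQ.conj {g : Cfsg.SU 3 F q} {a : F} (h : InQ hF g a) (x : Fˣ) :
    InQ hF (hE hF x * g * (hE hF x)⁻¹) (eta q (x : F) * a) := by
  obtain ⟨b, hb, rfl⟩ := h
  exact ⟨_, par_scale hb _ x.ne_zero, hE_uE x hb⟩

theorem inQ_cj {θ : Fˣ} {g : Cfsg.SU 3 F q} (hg : InQ hF g 1) : ∀ i : ℕ,
    InQ hF (cj g (hE hF θ) i) (eta q (θ : F) ^ i)
  | 0 => by rw [Nat.cast_zero, cj_zero, pow_zero]; exact hg
  | i + 1 => by
    rw [show ((i + 1 : ℕ) : ℤ) = 1 + (i : ℤ) by omega, cj_succ, pow_succ']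
    exact (inQ_cj hg i).conj θ

theorem inQ_word {g h : Cfsg.SU 3 F q} {t : F} (hg : ∀ i : ℕ, InQ hF (cj g h i) (t ^ i)) (f : ℤ[X]) :
    InQ hF (word g h f) (aeval t f) := by
  rw [word, aeval_eq_sum_range]
  induction f.natDegree + 1 with
  | zero => simpa using inQ_one
  | succ n ih =>
    rw [List.range_succ, List.map_append, List.prod_append, List.map_singleton, List.prod_singleton,
      Finset.sum_range_succ, zsmul_eq_mul]
    exact ih.mul ((hg n).zpow _)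

theorem mem_Z {δ : F} (hδ : δ ≠ 0) (hσ : σ δ = -δ) {g : Cfsg.SU 3 F q} (h : InQ hF g 0) :
    ∃ r : fixedField hF, g = emb hδ hσ (upT r) := by
  obtain ⟨b, hb, rfl⟩ := h
  have hbσ : σ b = -b := by rw [map_zero, mul_zero, add_zero] at hb; linear_combination hb
  have hr : σ (b / δ) = b / δ := by rw [map_div₀, hbσ, hσ, neg_div_neg_eq]
  exact ⟨⟨_, hr⟩, by rw [emb_upT]; show _ = uE hF 0 (δ * (b / δ)); rw [mul_div_cancel₀ _ hδ]⟩

theorem InQ.commutator {g g' : Cfsg.SU 3 F q} {a c : F} (h : InQ hF g a) (h' : InQ hF g' c) :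
    InQ hF ⁅g, g'⁆ 0 := by
  have := ((h.mul h').mul h.inv).mul h'.inv
  rwa [show a + c + -a + -c = 0 by ring] at this

theorem InQ.central {δ : F} (hδ : δ ≠ 0) (hσ : σ δ = -δ) {g : Cfsg.SU 3 F q} {a : F} (h : InQ hF g a)
    (r : fixedField hF) : Commute (emb hδ hσ (upT r)) g := by
  obtain ⟨b, hb, rfl⟩ := h
  have h0 : δ * (r : F) + σ (δ * (r : F)) + 0 * σ 0 = 0 := by rw [map_mul, hσ, σ_coe]; ring
  show _ = _
  rw [emb_upT, uE_mul h0 hb, uE_mul hb h0, zero_add, add_zero, map_zero, mul_zero, sub_zero, zero_mul, sub_zero, add_comm b]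

/-- The Bruhat relation in the model. -/
theorem bruhat_model {θ : Fˣ} (hθ : ∀ x : Fˣ, x ∈ Subgroup.zpowers θ) {δ : F} (hδ : δ ≠ 0) (hσ : σ δ = -δ)
    {a b : F} (hab : b + σ b + a * σ a = 0) (hb : b ≠ 0) :
    ∃ a1 b1 a2 b2 : F, b1 + σ b1 + a1 * σ a1 = 0 ∧ b2 + σ b2 + a2 * σ a2 = 0 ∧ ∃ i : ℕ,
      emb hδ hσ wM * uE hF a b * (emb hδ hσ wM)⁻¹ =
        uE hF a1 b1 * hE hF θ ^ i * emb hδ hσ wM * uE hF a2 b2 := by
  have hσb : σ b ≠ 0 := (map_ne_zero σ).2 hb
  set z : F := -δ / σ b with hz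
  have hz0 : z ≠ 0 := div_ne_zero (neg_ne_zero.2 hδ) hσb
  obtain ⟨i, hi⟩ := PSL2.Pres.exists_pow_eq hθ z hz0
  have h1 : -(δ ^ 2) / b + σ (-(δ ^ 2) / b) + -(δ * a) / b * σ (-(δ * a) / b) = 0 := by
    simp only [map_div₀, map_neg, map_pow, map_mul, hσ]
    field_simp
    linear_combination (-δ ^ 2) * hab
  have h2 : -(δ ^ 2) / b + σ (-(δ ^ 2) / b) + -(δ * a) / σ b * σ (-(δ * a) / σ b) = 0 := by
    simp only [map_div₀, map_neg, map_pow, map_mul, hσ, σσ hF]
    field_simp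
    linear_combination (-δ ^ 2) * hab
  refine ⟨_, _, _, _, h1, h2, i, ?_⟩
  rw [mul_inv_eq_iff_eq_mul, ← map_pow]
  refine co_injective (hF := hF) ?_
  rw [co_mul, co_mul, co_mul, co_mul, co_mul, co_emb, co_uE hab, co_uE h1, co_uE h2, co_hE, Units.val_pow_eq_pow_val, hi]
  ext j k
  fin_cases j <;> fin_cases k <;>
    simp [Lm, dd, uu, PSL2.Pres.wM_coe, Matrix.mul_apply, Fin.sum_univ_three, hz, map_div₀, hσ, σσ hF,
      -conjHom_apply] <;> field_simp <;>
    first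
      | ring1
      | linear_combination hab
      | linear_combination -hab
      | linear_combination δ * hab
      | linear_combination -δ * hab
      | linear_combination a * hab
      | linear_combination -a * hab
      | linear_combination σ a * hab
      | linear_combination -σ a * hab
      | (left; ring1)
      | (left; linear_combination (-δ ^ 2) * hab)
      | (left; linear_combination (δ ^ 2) * hab)

/-- Unipotent elements in the closure of the translates and the root group. -/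
theorem mem_closure_Q {θ : Fˣ} {δ : F} (hδ : δ ≠ 0) (hσ : σ δ = -δ) (hgen : Function.Surjective fun P : ℤ[X] => aeval (eta q (θ : F)) P)
    {g : Cfsg.SU 3 F q} (hg : InQ hF g 1) {a b : F} (hab : b + σ b + a * σ a = 0) :
    uE hF a b ∈ Subgroup.closure (Set.range (fun r => emb hδ hσ (upT r)) ∪ Set.range (cj g (hE hF θ))) := by
  set M := Subgroup.closure (Set.range (fun r => emb hδ hσ (upT r)) ∪ Set.range (cj g (hE hF θ)))
  obtain ⟨P, hP⟩ := hgen a
  have hw : InQ hF (word g (hE hF θ) P) a := by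
    have := inQ_word (inQ_cj (θ := θ) hg) P
    simp only at hP
    rwa [hP] at this
  have hwM : word g (hE hF θ) P ∈ M := by
    rw [word]
    refine Subgroup.list_prod_mem _ ?_
    intro x hx
    obtain ⟨i, -, rfl⟩ := List.mem_map.1 hx
    exact zpow_mem (show cj g (hE hF θ) (i : ℤ) ∈ M from Subgroup.subset_closure (Or.inr ⟨_, rfl⟩)) _
  have h0 : InQ hF ((word g (hE hF θ) P)⁻¹ * uE hF a b) 0 := by
    have := (InQ.inv hw).mul (show InQ hF (uE hF a b) a from ⟨b, hab, rfl⟩)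
    rwa [neg_add_cancel] at this
  obtain ⟨r, hr⟩ := mem_Z hδ hσ h0
  rw [show uE hF a b = word g (hE hF θ) P * ((word g (hE hF θ) P)⁻¹ * uE hF a b) by group, hr]
  exact mul_mem hwM (Subgroup.subset_closure (Or.inl ⟨r, rfl⟩))

/-- The generators generate. -/
theorem closure_top {θ : Fˣ} {δ : F} (hδ : δ ≠ 0) (hσ : σ δ = -δ) (hq : 3 ≤ q)
    (hgen : Function.Surjective fun P : ℤ[X] => aeval (eta q (θ : F)) P) {g : Cfsg.SU 3 F q} (hg : InQ hF g 1)
    {M : Subgroup (Cfsg.SU 3 F q)} (hu : g ∈ M) (hh : hE hF θ ∈ M) (hE' : ∀ A, emb hδ hσ A ∈ M) : M = ⊤ := by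
  have hQ : ∀ a b : F, b + σ b + a * σ a = 0 → uE hF a b ∈ M := fun a b hab => by
    refine (Subgroup.closure_le M).2 ?_ (mem_closure_Q hδ hσ hgen hg hab)
    rintro _ (⟨r, rfl⟩ | ⟨i, rfl⟩)
    · exact hE' _
    · exact mul_mem (mul_mem (zpow_mem hh _) hu) (inv_mem (zpow_mem hh _))
  obtain ⟨b, hb⟩ : ∃ b : F, b + σ b + 1 * σ 1 = 0 := by
    obtain ⟨b, hb⟩ := exists_trace_eq hF (c := (-1 : F)) (by rw [neg_pow_q hF, one_pow])
    refine ⟨b, ?_⟩
    rw [map_one, mul_one, conjHom_apply]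
    linear_combination hb
  have e : Bm (fr hF) *ᵥ (Lm hF δ wM *ᵥ ![1, 0, 0]) = suAct (emb hδ hσ wM) ((fr hF).P 0) := by
    rw [← vec_P (fr hF), Bm_mulVec]
    exact (elt_apply (fr hF) (Lm_good hδ hσ wM) ![1, 0, 0]).symm
  refine top_of_full (fr hF) hb one_ne_zero (hQ 1 b hb) hq ?_ (hE' wM) ?_
  · intro c hc
    rw [T_P (fr hF) hc]
    exact hQ 0 c (by rw [hc, map_zero]; ring)
  · rw [← e, Bm_mulVec, ← vec_P (fr hF), h_vecOf (hF := hF)]
    simp [g3, Lm, PSL2.Pres.wM_coe, Matrix.mulVec, dotProduct, Fin.sum_univ_three, hδ, -conjHom_apply]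

end Cfsg.Agent.SUPresent
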