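/-
Presentations of SU₃(q), q ≥ 3, with three generators and at most 23 relations.

* `core`: a presentation of SL₂(q), the torus relations, relations for the unipotent radical and
  one Bruhat relation for each class give a presentation.
* `hyp_shift`, `hyp_fin`: the two forms of the relations for the unipotent radical.
* `exists_pres`: the counts.
-/
import Cfsg.Agent.Lib.SUPresent.ThreeModel
import Cfsg.Agent.Lib.PSL2.SpFourMain
import Cfsg.Agent.Lib.PSL2.PresTools

set_option autoImplicit false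
set_option linter.unusedSectionVars false

open scoped MatrixGroups commutatorElement
open Polynomial

namespace Cfsg.Agent.SUPresent

open Cfsg.Agent.Unitary Cfsg.Agent.RegUnip.SU Cfsg.Agent.RegUnip.SU3
open Cfsg.Agent.PSL2 (upT)
open Cfsg.Agent.PSL2.Pres (dg wM cj cj_zero cj_add word map_word upT_add dg_conj)
open Cfsg.Agent.PSL2.PresTools (IsPres lift_comp lift_map exists_word isPres_of_list)

theorem map_cj {G H : Type*} [Group G] [Group H] (φ : G →* H) (a b : G) (i : ℤ) :
    φ (cj a b i) = cj (φ a) (φ b) i := by simp [cj]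

theorem cj_pow_mul {G : Type*} [Group G] (a b : G) (c : ℕ) (i : ℕ) :
    cj a (b ^ c) (i : ℤ) = cj a b ((c * i : ℕ) : ℤ) := by
  rw [cj, cj, zpow_natCast, zpow_natCast, pow_mul]

theorem cj_top_mem {G : Type*} [Group G] (u h : G) {f : ℤ[X]} (hf : f.Monic) (W : Subgroup G)
    (hW : ∀ i < f.natDegree, cj u h (i : ℕ) ∈ W) (hw : word u h f ∈ W) : cj u h f.natDegree ∈ W := by
  rw [word, List.range_succ, List.map_append, List.prod_append, List.map_singleton, List.prod_singleton,
    Polynomial.coeff_natDegree, hf.leadingCoeff, zpow_one] at hw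
  have hp : (List.map (fun i : ℕ => cj u h i ^ f.coeff i) (List.range f.natDegree)).prod ∈ W := by
    refine Subgroup.list_prod_mem _ fun x hx => ?_
    obtain ⟨i, hi, rfl⟩ := List.mem_map.1 hx
    exact zpow_mem (hW i (List.mem_range.1 hi)) _
  exact (Subgroup.mul_mem_cancel_left W hp).1 hw

theorem word_mem {G : Type*} [Group G] (u h : G) (c : ℕ) (g : ℤ[X]) :
    word u (h ^ c) g ∈ Subgroup.closure (Set.range fun i : ℕ => cj u h (c * i : ℕ)) := by
  rw [word]
  refine Subgroup.list_prod_mem _ fun x hx => ?_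
  obtain ⟨i, -, rfl⟩ := List.mem_map.1 hx
  rw [cj_pow_mul]
  exact zpow_mem (Subgroup.subset_closure (Set.mem_range_self (f := fun i : ℕ => cj u h (c * i : ℕ)) i)) _

universe uF

variable {F : Type uF} [Field F] [Fintype F] {q : ℕ} {hF : Fintype.card F = q ^ 2}

local notation "σ" => Cfsg.Agent.Unitary.conjHom hF
local notation "SL2K" => SL(2, fixedField hF)

variable (hF) in
/-- The parameters. -/
structure Par where
  θ : Fˣ
  δ : F
  b1 : F
  hθ : ∀ x : Fˣ, x ∈ Subgroup.zpowers θ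
  hδ : δ ≠ 0
  hσ : Cfsg.Agent.Unitary.conjHom hF δ = -δ
  hb1 : b1 + Cfsg.Agent.Unitary.conjHom hF b1 + 1 = 0

variable (hF) in
theorem exists_par : Nonempty (Par hF) := by
  obtain ⟨θ, hθ⟩ := IsCyclic.exists_generator (α := Fˣ)
  obtain ⟨δ, hδ, hσ⟩ := exists_skew hF
  obtain ⟨b, hb⟩ := exists_trace_eq hF (c := (-1 : F)) (by rw [neg_pow_q hF, one_pow])
  exact ⟨⟨θ, δ, b, hθ, hδ, hσ, by rw [conjHom_apply]; linear_combination hb⟩⟩

namespace Par

variable (P : Par hF)

theorem hb1' : P.b1 + σ P.b1 + 1 * σ 1 = 0 := by rw [map_one, mul_one]; exact P.hb1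

theorem inQ_u : InQ hF (uE hF 1 P.b1) 1 := ⟨P.b1, P.hb1', rfl⟩

/-- The norm of the generator. -/
noncomputable def n0 : (fixedField hF)ˣ :=
  Units.mk0 ⟨(P.θ : F) * σ P.θ, σ_norm hF _⟩ fun e =>
    mul_ne_zero P.θ.ne_zero ((map_ne_zero σ).2 P.θ.ne_zero) (congrArg Subtype.val e)

theorem n0_coe : ((P.n0 : fixedField hF) : F) = (P.θ : F) * σ P.θ := rfl

theorem n0_map : Units.map (fixedField hF).subtype.toMonoidHom P.n0 = P.θ ^ (q + 1) :=
  Units.ext (by
    rw [Units.val_pow_eq_pow_val, pow_succ']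
    rfl)

theorem n0_gen (x : (fixedField hF)ˣ) : ∃ k : ℕ, x = P.n0 ^ k := by
  obtain ⟨y, hy⟩ := exists_norm_eq hF (c := ((x : fixedField hF) : F)) x.1.2
  have hy0 : y ≠ 0 := fun e => x.ne_zero (Subtype.ext (by rw [e, zero_pow (Nat.succ_ne_zero q)] at hy; exact hy.symm))
  obtain ⟨m, rfl⟩ := PSL2.Pres.exists_pow_eq P.hθ y hy0
  refine ⟨m, Units.ext (Subtype.ext ?_)⟩
  rw [Units.val_pow_eq_pow_val, SubmonoidClass.coe_pow, P.n0_coe, conjHom_apply, ← pow_succ', ← pow_mul, ← hy,
    ← pow_mul, mul_comm]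

theorem n0_pow : P.n0 ^ (q - 1) = 1 := by
  refine Units.ext (Subtype.ext ?_)
  rw [Units.val_pow_eq_pow_val, SubmonoidClass.coe_pow, Units.val_one, OneMemClass.coe_one]
  exact (fixed_iff hF (fun e => P.n0.ne_zero (Subtype.ext e))).1 P.n0.1.2

/-- The model on five generators: those of SL₂(q), the unipotent and the diagonal element. -/
noncomputable def g5 (ω : (fixedField hF)ˣ) : Fin 5 → Cfsg.SU 3 F q :=
  ![emb P.hδ P.hσ (upT 1), emb P.hδ P.hσ (dg ω), emb P.hδ P.hσ wM, uE hF 1 P.b1, hE hF P.θ]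

end Par

/-- The inclusion of the generators of SL₂(q). -/
def ι3 : Fin 3 → Fin 5 := ![0, 1, 2]

/-- The unipotent generator as a word. -/
def UW : FreeGroup (Fin 5) := FreeGroup.of 3

/-- The diagonal generator as a word. -/
def HW : FreeGroup (Fin 5) := FreeGroup.of 4

theorem lift_cj {G : Type*} [Group G] (x : Fin 5 → G) (i : ℤ) :
    FreeGroup.lift x (cj UW HW i) = cj (x 3) (x 4) i := by
  rw [map_cj, UW, HW, FreeGroup.lift_apply_of, FreeGroup.lift_apply_of]

theorem lift_UW {G : Type*} [Group G] (x : Fin 5 → G) : FreeGroup.lift x UW = x 3 := by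
  rw [UW, FreeGroup.lift_apply_of]

theorem lift_HW {G : Type*} [Group G] (x : Fin 5 → G) : FreeGroup.lift x HW = x 4 := by
  rw [HW, FreeGroup.lift_apply_of]

theorem lift_word' {G : Type*} [Group G] (x : Fin 5 → G) (c : ℕ) (g : ℤ[X]) :
    FreeGroup.lift x (word UW (HW ^ c) g) = word (x 3) (x 4 ^ c) g := by
  rw [map_word, map_pow, lift_UW, lift_HW]

open Classical in
/-- The element of the root group with a given image. -/
noncomputable def rv (P : Par hF) (y : Cfsg.SU 3 F q) : fixedField hF :=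
  if h : ∃ r, y = emb P.hδ P.hσ (upT r) then h.choose else 0

/-- The relation placing a word in the root group. -/
noncomputable def rel (P : Par hF) (ω : (fixedField hF)ˣ) (W : SL2K → FreeGroup (Fin 5))
    (w : FreeGroup (Fin 5)) : FreeGroup (Fin 5) :=
  w * (W (upT (rv P (FreeGroup.lift (P.g5 ω) w))))⁻¹

theorem rel_sat (P : Par hF) (ω : (fixedField hF)ˣ) (W : SL2K → FreeGroup (Fin 5))
    (hW : ∀ A, FreeGroup.lift (P.g5 ω) (W A) = emb P.hδ P.hσ A) {w : FreeGroup (Fin 5)}
    (h : InQ hF (FreeGroup.lift (P.g5 ω) w) 0) : FreeGroup.lift (P.g5 ω) (rel P ω W w) = 1 := by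
  rw [rel, map_mul, map_inv, hW, mul_inv_eq_one]
  have he := mem_Z P.hδ P.hσ h
  rw [rv, dif_pos he]
  exact he.choose_spec

theorem rel_mem (P : Par hF) (ω : (fixedField hF)ˣ) (W : SL2K → FreeGroup (Fin 5)) {G : Type*} [Group G]
    (x : Fin 5 → G) (A : SL2K →* G) (hA : ∀ g, FreeGroup.lift x (W g) = A g) {w : FreeGroup (Fin 5)}
    (h : FreeGroup.lift x (rel P ω W w) = 1) : ∃ r, FreeGroup.lift x w = A (upT r) := by
  rw [rel, map_mul, map_inv, hA, mul_inv_eq_one] at h
  exact ⟨_, h⟩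

theorem rv_sq [CharP F 2] (P : Par hF) (ω : (fixedField hF)ˣ) (hδ : P.δ = 1) :
    rv P (FreeGroup.lift (P.g5 ω) (UW ^ 2)) = 1 := by
  have h2 : (2 : F) = 0 := CharP.cast_eq_zero F 2
  have e : FreeGroup.lift (P.g5 ω) (UW ^ 2) = emb P.hδ P.hσ (upT 1) := by
    rw [map_pow, lift_UW, sq, show P.g5 ω 3 = uE hF 1 P.b1 from rfl, uE_mul P.hb1' P.hb1', emb_upT, hδ]
    congr 1
    · linear_combination h2
    · rw [OneMemClass.coe_one, map_one]
      linear_combination (P.b1 - 1) * h2
  have he : ∃ r, FreeGroup.lift (P.g5 ω) (UW ^ 2) = emb P.hδ P.hσ (upT r) := ⟨1, e⟩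
  rw [rv, dif_pos he]
  have hc := e.symm.trans he.choose_spec
  rw [emb_upT, emb_upT] at hc
  have hp : ∀ r : fixedField hF, P.δ * (r : F) + σ (P.δ * (r : F)) + 0 * σ 0 = 0 := fun r => by
    rw [map_mul, P.hσ, σ_coe]; ring
  exact Subtype.ext (mul_left_cancel₀ P.hδ (uE_inj (hp _) (hp _) hc).2).symm

/-- The root group in an image of SL₂. -/
def zSub {G : Type*} [Group G] (A : SL2K →* G) : Subgroup G :=
  (A.comp (PSL2.Pres.upHom (F := fixedField hF))).range

theorem mem_zSub {G : Type*} [Group G] {A : SL2K →* G} {x : G} : x ∈ zSub A ↔ ∃ r, x = A (upT r) :=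
  ⟨fun ⟨r, hr⟩ => ⟨Multiplicative.toAdd r, hr.symm⟩, fun ⟨r, hr⟩ => ⟨Multiplicative.ofAdd r, hr.symm⟩⟩

theorem zSub_comm {G : Type*} [Group G] {A : SL2K →* G} {x y : G} (hx : x ∈ zSub A) (hy : y ∈ zSub A) :
    Commute x y := by
  obtain ⟨r, rfl⟩ := mem_zSub.1 hx
  obtain ⟨s, rfl⟩ := mem_zSub.1 hy
  show _ = _
  rw [← map_mul, ← map_mul, ← upT_add, ← upT_add, add_comm]

/-- Relations for the unipotent radical that do what is needed. -/
structure QHyp (P : Par hF) (ω : (fixedField hF)ˣ) (f : ℤ[X]) (p : ℕ) (W : SL2K → FreeGroup (Fin 5))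
    (lH : List (FreeGroup (Fin 5))) : Prop where
  sat : ∀ r ∈ lH, FreeGroup.lift (P.g5 ω) r = 1
  suff : ∀ (G : Type uF) [Group G] (x : Fin 5 → G) (A : SL2K →* G),
    (∀ g, FreeGroup.lift x (W g) = A g) → x 4 ^ (q ^ 2 - 1) = 1 →
    (∀ z ∈ zSub A, x 4 * z * (x 4)⁻¹ ∈ zSub A) →
    (∀ r, Commute (x 4 ^ (q - 1)) (A (upT r))) →
    (∀ z : G, z ∈ zSub A → ∀ r0, r0 ≠ 0 → z = A (upT r0) → (∀ i : ℕ, Commute z (cj (x 3) (x 4) i)) →
      ∀ y ∈ zSub A, ∀ i : ℤ, Commute y (cj (x 3) (x 4) i)) →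
    (∀ r ∈ lH, FreeGroup.lift x r = 1) →
    x 3 ^ p ∈ zSub A ∧ word (x 3) (x 4) f ∈ zSub A ∧
      ∃ S : Pre G, S.u = x 3 ∧ S.h = x 4 ∧ S.Zs = zSub A ∧
        ∀ i j : ℤ, Commute (cj S.ub S.hb i) (cj S.ub S.hb j)

/-- The setting of the sufficiency condition. -/
theorem pre_of {G : Type*} [Group G] (A : SL2K →* G) (u h : G) (hper : h ^ (q ^ 2 - 1) = 1)
    (hZh : ∀ z ∈ zSub A, h * z * h⁻¹ ∈ zSub A) (hc : ∀ y ∈ zSub A, ∀ i : ℤ, Commute y (cj u h i)) :
    ∃ S : Pre G, S.u = u ∧ S.h = h ∧ S.Zs = zSub A ∧ S.Zs = zSub A :=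
  ⟨⟨u, h, zSub A, q ^ 2 - 1, N_pos hF, hper, hZh, hc⟩, rfl, rfl, rfl, rfl⟩

theorem bar_mem_closure {G : Type*} [Group G] (S : Pre G) (s : Set ℤ) {x : G} (hxa : x ∈ S.amb)
    (hx : x ∈ Subgroup.closure (cj S.u S.h '' s ∪ (S.Zs : Set G))) :
    QuotientGroup.mk' S.Z0 ⟨x, hxa⟩ ∈ Subgroup.closure (cj S.ub S.hb '' s) := by
  have key : ∀ y ∈ Subgroup.closure (cj S.u S.h '' s ∪ (S.Zs : Set G)),
      ∃ hy : y ∈ S.amb, QuotientGroup.mk' S.Z0 ⟨y, hy⟩ ∈ Subgroup.closure (cj S.ub S.hb '' s) := by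
    intro y hy
    induction hy using Subgroup.closure_induction with
    | mem y hy =>
      rcases hy with ⟨i, hi, rfl⟩ | hy
      · exact ⟨S.cj_mem i, by rw [← S.cj_bar]; exact Subgroup.subset_closure ⟨i, hi, rfl⟩⟩
      · have hya : y ∈ S.amb := Subgroup.subset_closure (Or.inl hy)
        refine ⟨hya, ?_⟩
        rw [(S.bar_eq_one hya).2 hy]
        exact one_mem _
    | one => exact ⟨one_mem _, by rw [show (⟨1, one_mem _⟩ : S.amb) = 1 from rfl, map_one]; exact one_mem _⟩
    | mul y z _ _ hy hz =>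
      obtain ⟨hy, hy'⟩ := hy
      obtain ⟨hz, hz'⟩ := hz
      refine ⟨mul_mem hy hz, ?_⟩
      rw [show (⟨y * z, mul_mem hy hz⟩ : S.amb) = ⟨y, hy⟩ * ⟨z, hz⟩ from rfl, map_mul]
      exact mul_mem hy' hz'
    | inv y _ hy =>
      obtain ⟨hy, hy'⟩ := hy
      refine ⟨inv_mem hy, ?_⟩
      rw [show (⟨y⁻¹, inv_mem hy⟩ : S.amb) = (⟨y, hy⟩ : S.amb)⁻¹ from rfl, map_inv]
      exact inv_mem hy'
  obtain ⟨_, h⟩ := key x hx
  exact h

section lists

variable (P : Par hF) (ω : (fixedField hF)ˣ) (f : ℤ[X]) (p : ℕ) (W : SL(2, fixedField hF) → FreeGroup (Fin 5))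

/-- Relations for a field generated by powers of the multiplier. -/
noncomputable def lShift (A B : ℕ) (g1 g2 : ℤ[X]) : List (FreeGroup (Fin 5)) :=
  [⁅W (upT 1), UW⁆, rel P ω W (UW ^ p), rel P ω W (word UW HW f), rel P ω W ⁅cj UW HW 0, cj UW HW A⁆,
    rel P ω W (cj UW HW B * (cj UW HW A * cj UW HW 0)⁻¹), rel P ω W (cj UW HW 1 * (word UW (HW ^ (q - 1)) g1)⁻¹),
    rel P ω W (cj UW HW 1 * (word UW (HW ^ A) g2)⁻¹)]

/-- Relations for small fields. -/
noncomputable def lFin (k : ℕ) : List (FreeGroup (Fin 5)) :=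
  [rel P ω W (UW ^ p), rel P ω W (word UW HW f)] ++
    ((List.Ico k f.natDegree).map fun i : ℕ => ⁅W (upT 1), cj UW HW i⁆) ++
    ((List.Ico 1 f.natDegree).map fun i : ℕ => rel P ω W ⁅cj UW HW 0, cj UW HW i⁆)

theorem lFin_length (k : ℕ) : (lFin P ω f p W k).length = 2 + (f.natDegree - k) + (f.natDegree - 1) := by
  simp [lFin]; omega

variable {P ω f p W}

theorem hyp_shift [CharP F p] (hW : ∀ A, FreeGroup.lift (P.g5 ω) (W A) = emb P.hδ P.hσ A)
    (hf : aeval (eta q (P.θ : F)) f = 0) {A B : ℕ} (hB : eta q (P.θ : F) ^ B = eta q (P.θ : F) ^ A + 1)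
    {g1 g2 : ℤ[X]} (hg1 : aeval (eta q (P.θ : F) ^ (q - 1)) g1 = eta q (P.θ : F))
    (hg2 : aeval (eta q (P.θ : F) ^ A) g2 = eta q (P.θ : F)) :
    QHyp P ω f p W (lShift P ω f p W A B g1 g2) where
  sat := by
    have h3 : InQ hF (P.g5 ω 3) 1 := P.inQ_u
    have hc : ∀ i : ℕ, InQ hF (FreeGroup.lift (P.g5 ω) (cj UW HW i)) (eta q (P.θ : F) ^ i) := fun i => by
      rw [lift_cj]; exact inQ_cj h3 i
    have hw : ∀ c g, InQ hF (FreeGroup.lift (P.g5 ω) (word UW (HW ^ c) g)) (aeval (eta q (P.θ : F) ^ c) g) :=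
      fun c g => by
        rw [lift_word']
        refine inQ_word (fun i => ?_) g
        rw [cj_pow_mul, ← pow_mul]
        exact inQ_cj h3 _
    intro r hr
    simp only [lShift, List.mem_cons, List.not_mem_nil, or_false] at hr
    rcases hr with rfl | rfl | rfl | rfl | rfl | rfl | rfl
    · rw [map_commutatorElement, hW, lift_UW, commutatorElement_eq_one_iff_commute]
      exact h3.central P.hδ P.hσ 1
    all_goals refine rel_sat P ω W hW ?_
    · rw [map_pow, lift_UW]
      have := h3.pow p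
      rwa [CharP.cast_eq_zero F p, zero_mul] at this
    · have := hw 1 f
      rwa [pow_one, pow_one, hf] at this
    · rw [map_commutatorElement, show (0 : ℤ) = ((0 : ℕ) : ℤ) from rfl]
      exact (hc 0).commutator (hc A)
    · rw [map_mul, map_inv, map_mul, show (0 : ℤ) = ((0 : ℕ) : ℤ) from rfl]
      have := (hc B).mul ((hc A).mul (hc 0)).inv
      rwa [pow_zero, hB, add_neg_cancel] at this
    · rw [map_mul, map_inv, show (1 : ℤ) = ((1 : ℕ) : ℤ) from rfl]
      have := (hc 1).mul (hw (q - 1) g1).inv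
      rwa [pow_one, hg1, add_neg_cancel] at this
    · rw [map_mul, map_inv, show (1 : ℤ) = ((1 : ℕ) : ℤ) from rfl]
      have := (hc 1).mul (hw A g2).inv
      rwa [pow_one, hg2, add_neg_cancel] at this
  suff := by
    intro G _ x Φ hΦ hper hZh hqz hscale hx
    simp only [lShift, List.mem_cons, List.not_mem_nil, or_false, forall_eq_or_imp, forall_eq] at hx
    obtain ⟨r1, r2, r3, r4, r5, r6, r7⟩ := hx
    have memz : ∀ w, FreeGroup.lift x (rel P ω W w) = 1 → FreeGroup.lift x w ∈ zSub Φ :=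
      fun w h => mem_zSub.2 (rel_mem P ω W x Φ hΦ h)
    have up := memz _ r2
    have wf := memz _ r3
    have m4 := memz _ r4
    have m5 := memz _ r5
    have m6 := memz _ r6
    have m7 := memz _ r7
    rw [map_pow, lift_UW] at up
    rw [map_word, lift_UW, lift_HW] at wf
    rw [map_commutatorElement, lift_cj, lift_cj] at m4
    rw [map_mul, map_inv, map_mul, lift_cj, lift_cj, lift_cj] at m5
    rw [map_mul, map_inv, lift_cj, lift_word'] at m6 m7
    rw [map_commutatorElement, hΦ, lift_UW, commutatorElement_eq_one_iff_commute] at r1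
    refine ⟨up, wf, ?_⟩
    have hz : Φ (upT 1) ∈ zSub Φ := mem_zSub.2 ⟨1, rfl⟩
    have h1 : cj (x 3) (x 4) 1 ∈
        Subgroup.closure (Set.range (fun i : ℕ => cj (x 3) (x 4) ((q - 1) * i : ℕ)) ∪ (zSub Φ : Set G)) := by
      rw [show cj (x 3) (x 4) 1 = cj (x 3) (x 4) 1 * (word (x 3) (x 4 ^ (q - 1)) g1)⁻¹ *
        word (x 3) (x 4 ^ (q - 1)) g1 by group]
      exact mul_mem (Subgroup.subset_closure (Or.inr m6))
        (Subgroup.closure_mono Set.subset_union_left (word_mem _ _ _ _))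
    have hall := hscale _ hz 1 one_ne_zero rfl
      (commute_z_shift _ _ _ _ hZh (fun y hy => zSub_comm hz hy) (hqz 1) r1 h1)
    obtain ⟨S, eu, eh, eZ, -⟩ := pre_of Φ (x 3) (x 4) hper hZh hall
    refine ⟨S, eu, eh, eZ, ?_⟩
    rw [← eu, ← eh, ← eZ] at m4 m5 m7
    refine commute_shift S.ub S.hb (A := A) (B := B) (S.bar_commute.2 m4) ?_ ?_
    · rw [S.cj_bar, S.cj_bar, S.cj_bar, ← map_mul]
      exact (QuotientGroup.eq (s := S.Z0)).2 (show (cj S.u S.h B)⁻¹ * (cj S.u S.h A * cj S.u S.h 0) ∈ S.Zs by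
        have := inv_mem m5
        rw [_root_.mul_inv_rev, inv_inv] at this
        have hh := S.hcent _ this B
        rw [show (cj S.u S.h B)⁻¹ * (cj S.u S.h A * cj S.u S.h 0) =
          (cj S.u S.h B)⁻¹ * ((cj S.u S.h A * cj S.u S.h 0) * (cj S.u S.h B)⁻¹ * cj S.u S.h B) by group, hh.eq,
          inv_mul_cancel_left]
        exact this)
    · have e : (fun i : ℕ => cj S.ub S.hb (A * i : ℕ)) =
          cj S.ub S.hb ∘ fun i : ℕ => ((A * i : ℕ) : ℤ) := rfl
      rw [e, Set.range_comp, S.cj_bar]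
      refine bar_mem_closure S _ _ ?_
      rw [show cj S.u S.h 1 = cj S.u S.h 1 * (word S.u (S.h ^ A) g2)⁻¹ * word S.u (S.h ^ A) g2 by group]
      refine mul_mem (Subgroup.subset_closure (Or.inr m7)) ?_
      have := word_mem S.u S.h A g2
      rw [show (fun i : ℕ => cj S.u S.h (A * i : ℕ)) = cj S.u S.h ∘ fun i : ℕ => ((A * i : ℕ) : ℤ) from rfl,
        Set.range_comp] at this
      exact Subgroup.closure_mono Set.subset_union_left this

theorem hyp_fin [CharP F p] (hW : ∀ A, FreeGroup.lift (P.g5 ω) (W A) = emb P.hδ P.hσ A)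
    (hf : aeval (eta q (P.θ : F)) f = 0) (hfm : f.Monic) (hD : 0 < f.natDegree) {k : ℕ}
    (hk : k = 0 ∨ (k = 1 ∧ p = 2 ∧ P.δ = 1)) : QHyp P ω f p W (lFin P ω f p W k) where
  sat := by
    have h3 : InQ hF (P.g5 ω 3) 1 := P.inQ_u
    intro r hr
    simp only [lFin, List.mem_append, List.mem_cons, List.not_mem_nil, or_false, List.mem_map] at hr
    rcases hr with ((rfl | rfl) | ⟨i, -, rfl⟩) | ⟨i, -, rfl⟩
    · refine rel_sat P ω W hW ?_
      rw [map_pow, lift_UW]
      have := h3.pow p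
      rwa [CharP.cast_eq_zero F p, zero_mul] at this
    · refine rel_sat P ω W hW ?_
      rw [map_word, lift_UW, lift_HW]
      exact hf ▸ inQ_word (inQ_cj h3) f
    · rw [map_commutatorElement, hW, lift_cj, commutatorElement_eq_one_iff_commute]
      exact (inQ_cj h3 i).central P.hδ P.hσ 1
    · refine rel_sat P ω W hW ?_
      rw [map_commutatorElement, lift_cj, lift_cj, show (0 : ℤ) = ((0 : ℕ) : ℤ) from rfl]
      exact (inQ_cj h3 0).commutator (inQ_cj h3 i)
  suff := by
    intro G _ x Φ hΦ hper hZh hqz hscale hx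
    simp only [lFin, List.mem_append, List.mem_cons, List.not_mem_nil, or_false, List.mem_map] at hx
    have up := mem_zSub.2 (rel_mem P ω W x Φ hΦ (hx _ (Or.inl (Or.inl (Or.inl rfl)))))
    have wf := mem_zSub.2 (rel_mem P ω W x Φ hΦ (hx _ (Or.inl (Or.inl (Or.inr rfl)))))
    rw [map_pow, lift_UW] at up
    rw [map_word, lift_UW, lift_HW] at wf
    refine ⟨up, wf, ?_⟩
    have hz : Φ (upT 1) ∈ zSub Φ := mem_zSub.2 ⟨1, rfl⟩
    have hzi : ∀ i, k ≤ i → i < f.natDegree → Commute (Φ (upT 1)) (cj (x 3) (x 4) (i : ℕ)) := by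
      intro i hki hi
      have h := hx _ (Or.inl (Or.inr ⟨i, List.Ico.mem.2 ⟨hki, hi⟩, rfl⟩))
      rwa [map_commutatorElement, hΦ, lift_cj, commutatorElement_eq_one_iff_commute] at h
    have htop : ∀ W' : Subgroup G, (∀ i < f.natDegree, cj (x 3) (x 4) (i : ℕ) ∈ W') → zSub Φ ≤ W' →
        cj (x 3) (x 4) f.natDegree ∈ W' := fun W' h1 h2 => cj_top_mem _ _ hfm W' h1 (h2 wf)
    -- the square of the unipotent generator is a root element
    have hz0 : Commute (Φ (upT 1)) (x 3) := by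
      rcases hk with rfl | ⟨rfl, rfl, hδ1⟩
      · simpa [cj_zero] using hzi 0 le_rfl hD
      · -- x₃² = z_r with r ≠ 0, scaled by the torus
        have hr := hx _ (Or.inl (Or.inl (Or.inl rfl)))
        rw [rel, map_mul, map_inv, map_pow, lift_UW, hΦ, mul_inv_eq_one] at hr
        set r2 := rv P (FreeGroup.lift (P.g5 ω) (UW ^ 2))
        have hr2 : r2 = 1 := rv_sq P ω hδ1
        rw [hr2] at hr
        rw [← hr]
        exact (Commute.refl (x 3)).pow_left 2
    have hzD : ∀ i < f.natDegree, Commute (Φ (upT 1)) (cj (x 3) (x 4) (i : ℕ)) := by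
      intro i hi
      rcases Nat.lt_or_ge i k with hlt | hge
      · obtain rfl : i = 0 := by rcases hk with rfl | ⟨rfl, -, -⟩ <;> omega
        simpa [cj_zero] using hz0
      · exact hzi i hge hi
    have hall := hscale _ hz 1 one_ne_zero rfl
      (commute_z_fin _ _ _ _ hZh (fun y hy => zSub_comm hz hy) hD hzD
        (htop _ (fun i hi => Subgroup.subset_closure (Or.inl ⟨i, hi, rfl⟩))
          fun y hy => Subgroup.subset_closure (Or.inr hy)))
    obtain ⟨S, eu, eh, eZ, -⟩ := pre_of Φ (x 3) (x 4) hper hZh hall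
    refine ⟨S, eu, eh, eZ, ?_⟩
    refine commute_fin S.ub S.hb hD (fun i hi => ?_) ?_
    · rcases Nat.eq_zero_or_pos i with rfl | hi0
      · exact Commute.refl _
      · refine S.bar_commute.2 ?_
        have h := mem_zSub.2 (rel_mem P ω W x Φ hΦ (hx _ (Or.inr ⟨i, List.Ico.mem.2 ⟨hi0, hi⟩, rfl⟩)))
        rwa [map_commutatorElement, lift_cj, lift_cj, ← eu, ← eh, ← eZ] at h
    · have e : (fun i : ℕ => cj S.ub S.hb i) '' Set.Iio f.natDegree =
          cj S.ub S.hb '' ((fun i : ℕ => (i : ℤ)) '' Set.Iio f.natDegree) := (Set.image_image _ _ _).symm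
      rw [e, S.cj_bar]
      refine bar_mem_closure S _ _ ?_
      rw [eu, eh, eZ]
      exact htop _ (fun i hi => Subgroup.subset_closure (Or.inl ⟨i, ⟨i, hi, rfl⟩, rfl⟩))
        fun y hy => Subgroup.subset_closure (Or.inr hy)

end lists

section core

variable (P : Par hF)

theorem upT0 : upT (0 : fixedField hF) = 1 := map_one (PSL2.Pres.upHom (F := fixedField hF))

theorem theta_ne : σ (P.θ : F) ≠ (P.θ : F) := by
  intro hc
  have hall : ∀ x : F, x ^ q = x := fun x => by
    rcases eq_or_ne x 0 with rfl | hx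
    · exact zero_pow_q hF
    · obtain ⟨m, rfl⟩ := PSL2.Pres.exists_pow_eq P.hθ x hx
      rw [← pow_mul, mul_comm, pow_mul]
      exact congrArg (· ^ m) hc
  have h := card_fixed hF
  rw [Nat.card_congr (Equiv.subtypeUnivEquiv hall), Nat.card_eq_fintype_card, hF] at h
  have := two_le_q hF
  nlinarith

/-- The base unipotent parameter of a class. -/
def bb (P : Par hF) (a : F) : F :=
  P.δ * (P.θ : F) * (-(a * σ a) / (P.δ * ((P.θ : F) - σ (P.θ : F))))

theorem bb_unique {a b : F} (h : b + σ b + a * σ a = 0) {k : fixedField hF}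
    (e : b = P.δ * (P.θ : F) * (k : F)) : b = bb P a := by
  subst e
  rw [map_mul, map_mul, P.hσ, σ_coe] at h
  have hne : P.δ * ((P.θ : F) - σ (P.θ : F)) ≠ 0 := mul_ne_zero P.hδ (sub_ne_zero.2 (theta_ne P).symm)
  unfold bb
  congr 1
  rw [eq_div_iff hne]
  linear_combination h

theorem bb_par (a : F) : bb P a + σ (bb P a) + a * σ a = 0 := by
  have hne : P.δ * ((P.θ : F) - σ (P.θ : F)) ≠ 0 := mul_ne_zero P.hδ (sub_ne_zero.2 (theta_ne P).symm)
  have hk : σ (-(a * σ a) / (P.δ * ((P.θ : F) - σ (P.θ : F)))) = -(a * σ a) / (P.δ * ((P.θ : F) - σ (P.θ : F))) := by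
    rw [map_div₀, map_neg, σ_norm hF, map_mul, map_sub, σσ hF, P.hσ]
    congr 1; ring
  have e1 : P.δ * ((P.θ : F) - σ (P.θ : F)) * (-(a * σ a) / (P.δ * ((P.θ : F) - σ (P.θ : F)))) = -(a * σ a) :=
    mul_div_cancel₀ _ hne
  unfold bb
  rw [map_mul, map_mul, P.hσ, hk]
  linear_combination e1

theorem bb_ne {a : F} (ha : a ≠ 0) : bb P a ≠ 0 :=
  mul_ne_zero (mul_ne_zero P.hδ P.θ.ne_zero) (div_ne_zero (neg_ne_zero.2 (mul_ne_zero ha ((map_ne_zero σ).2 ha)))
    (mul_ne_zero P.hδ (sub_ne_zero.2 (theta_ne P).symm)))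

theorem card_zSub_le {G : Type*} [Group G] (A : SL2K →* G) : Finite (zSub A) ∧ Nat.card (zSub A) ≤ q := by
  let s := (A.comp (PSL2.Pres.upHom (F := fixedField hF))).rangeRestrict
  have hs : Function.Surjective s := (A.comp (PSL2.Pres.upHom (F := fixedField hF))).rangeRestrict_surjective
  refine ⟨Finite.of_surjective s hs, ?_⟩
  have := Nat.card_le_card_of_surjective s hs
  rwa [Nat.card_congr Multiplicative.toAdd, card_fixedField hF] at this

/-- The generators generate. -/
theorem top_of_three (hq : 3 ≤ q) (hgen : Subring.closure ({eta q (P.θ : F)} : Set F) = ⊤)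
    {M : Subgroup (Cfsg.SU 3 F q)} (hu : uE hF 1 P.b1 ∈ M) (hh : hE hF P.θ ∈ M)
    (ht : emb P.hδ P.hσ wM ∈ M) : M = ⊤ := by
  have hsurj := surjective_of_closure hgen
  refine closure_top P.hδ P.hσ hq hsurj P.inQ_u hu hh fun A => ?_
  -- a nontrivial commutator in the root group
  have h1 : InQ hF ⁅uE hF 1 P.b1, hE hF P.θ * uE hF 1 P.b1 * (hE hF P.θ)⁻¹⁆ 0 :=
    P.inQ_u.commutator (P.inQ_u.conj P.θ)
  obtain ⟨r0, hr0⟩ := mem_Z P.hδ P.hσ h1
  have hr0' : r0 ≠ 0 := by
    rintro rfl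
    have hz : emb P.hδ P.hσ (upT (0 : fixedField hF)) = 1 := by
      rw [emb_upT, ZeroMemClass.coe_zero, mul_zero, uE_zero]
    rw [hz, commutatorElement_eq_one_iff_commute, hE_uE P.θ P.hb1'] at hr0
    have hp := par_scale P.hb1' (P.θ : F) P.θ.ne_zero
    have e := hr0.eq
    rw [uE_mul P.hb1' hp, uE_mul hp P.hb1'] at e
    have e2 := (uE_inj (par_mul P.hb1' hp) (par_mul hp P.hb1') e).2
    have hfix : (eta q (P.θ : F)) ^ q = eta q (P.θ : F) := by
      simp only [map_one, mul_one, one_mul] at e2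
      rw [← conjHom_apply (hF := hF)]
      linear_combination e2
    have hle : Subring.closure ({eta q (P.θ : F)} : Set F) ≤ (fixedField hF).toSubring :=
      Subring.closure_le.2 (by rintro _ rfl; exact hfix)
    rw [hgen] at hle
    obtain ⟨d, hd0, hd⟩ := exists_skew hF
    have hd2 : d ^ q = d := hle (Subring.mem_top d)
    rw [hd] at hd2
    have h2 : (2 : F) = 0 := (mul_eq_zero.1 (show (2 : F) * d = 0 by linear_combination -hd2)).resolve_right hd0
    have hall : ∀ x : F, x ^ q = x := fun x => hle (Subring.mem_top x)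
    have h := card_fixed hF
    rw [Nat.card_congr (Equiv.subtypeUnivEquiv hall), Nat.card_eq_fintype_card, hF] at h
    nlinarith
  have hup : ∀ r : fixedField hF, emb P.hδ P.hσ (upT r) ∈ M := by
    intro r
    rcases eq_or_ne r 0 with rfl | hr
    · rw [emb_upT, ZeroMemClass.coe_zero, mul_zero, uE_zero]; exact one_mem _
    obtain ⟨k, hk⟩ := P.n0_gen (Units.mk0 r hr * (Units.mk0 r0 hr0')⁻¹)
    have hk' : r = (P.n0 : fixedField hF) ^ k * r0 := by
      have := congrArg (fun z : (fixedField hF)ˣ => ((z * Units.mk0 r0 hr0' : (fixedField hF)ˣ) : fixedField hF)) hk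
      simpa using this
    have hmem : ∀ k : ℕ, emb P.hδ P.hσ (upT ((P.n0 : fixedField hF) ^ k * r0)) ∈ M := by
      intro k
      induction k with
      | zero =>
        rw [pow_zero, one_mul, ← hr0]
        exact mul_mem (mul_mem (mul_mem hu (mul_mem (mul_mem hh hu) (inv_mem hh))) (inv_mem hu))
          (inv_mem (mul_mem (mul_mem hh hu) (inv_mem hh)))
      | succ k ih =>
        have hp : P.δ * (((P.n0 : fixedField hF) ^ k * r0 : fixedField hF) : F) +
            σ (P.δ * (((P.n0 : fixedField hF) ^ k * r0 : fixedField hF) : F)) + 0 * σ 0 = 0 := by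
          rw [map_mul, P.hσ, σ_coe]; ring
        have := mul_mem (mul_mem hh ih) (inv_mem hh)
        rw [emb_upT, hE_uE P.θ hp, mul_zero] at this
        rw [emb_upT]
        convert this using 2
        push_cast
        rw [pow_succ, P.n0_coe]
        ring
    exact hk' ▸ hmem k
  have hdg : ∀ x : (fixedField hF)ˣ, emb P.hδ P.hσ (dg x) ∈ M := by
    intro x
    have h := BD.rank_one x⁻¹
    rw [inv_inv] at h
    have e : dg x = (upT (-(x : fixedField hF)))⁻¹ *
        (wM * upT ((x⁻¹ : (fixedField hF)ˣ) : fixedField hF) * (wM : SL2K)⁻¹) *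
        (upT (-(x : fixedField hF)))⁻¹ * (wM : SL2K)⁻¹ := by
      rw [h]; group
    rw [e]
    simp only [map_mul, map_inv]
    exact mul_mem (mul_mem (mul_mem (inv_mem (hup _)) (mul_mem (mul_mem ht (hup _)) (inv_mem ht))) (inv_mem (hup _)))
      (inv_mem ht)
  obtain ⟨ω, hω, -⟩ := PSL2.Pres.exists_generator (F := fixedField hF)
  have hcl := PSL2.Pres.closure_target ω hω (PSL2.SpFour.aeval_surjective hω)
  have hle : Subgroup.closure (Set.range ![upT (1 : fixedField hF), dg ω, wM]) ≤ M.comap (emb P.hδ P.hσ) := by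
    rw [Subgroup.closure_le, Set.range_subset_iff]
    intro i
    fin_cases i
    · exact hup 1
    · exact hdg ω
    · exact ht
  exact hle (hcl ▸ Subgroup.mem_top A)

/-- The presentation. -/
theorem core (hq : 3 ≤ q) {p : ℕ} [Fact p.Prime] [CharP F p] (ω : (fixedField hF)ˣ)
    {R : Finset (FreeGroup (Fin 3))} (e : PresentedGroup (↑R : Set (FreeGroup (Fin 3))) ≃* SL2K)
    (he : ∀ i, e (PresentedGroup.of i) = ![upT (1 : fixedField hF), dg ω, wM] i)
    (hgen : Subring.closure ({eta q (P.θ : F)} : Set F) = ⊤) {f : ℤ[X]}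
    (hf : f.map (Int.castRingHom (ZMod p)) = @minpoly (ZMod p) F _ _ (ZMod.algebra F p) (eta q (P.θ : F))) {c : ℕ}
    (hQ : ∀ W, (∀ A, FreeGroup.lift (P.g5 ω) (W A) = emb P.hδ P.hσ A) →
      ∃ lH, QHyp P ω f p W lH ∧ lH.length ≤ c) :
    IsPres (P.g5 ω) (R.card + 3 + c + gg q) := by
  classical
  have hsurj := surjective_of_closure hgen
  have hp3 : IsPres ![upT (1 : fixedField hF), dg ω, wM] R.card := ⟨R, le_rfl, e, he⟩
  set l3 := R.toList
  have hl3 : l3.length ≤ R.card := (Finset.length_toList R).le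
  have hsat3 : ∀ r ∈ l3, FreeGroup.lift ![upT (1 : fixedField hF), dg ω, wM] r = 1 := fun r hr => by
    have h : FreeGroup.lift ![upT (1 : fixedField hF), dg ω, wM] r =
        e (PresentedGroup.mk (↑R : Set (FreeGroup (Fin 3))) r) :=
      DFunLike.congr_fun (FreeGroup.ext_hom (FreeGroup.lift ![upT (1 : fixedField hF), dg ω, wM])
        (e.toMonoidHom.comp (PresentedGroup.mk _)) fun i => by
          rw [FreeGroup.lift_apply_of]; exact (he i).symm) r
    rw [h, PresentedGroup.one_of_mem (Finset.mem_coe.mpr (Finset.mem_toList.1 hr)), map_one]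
  choose w3 hw3 using exists_word hp3.closure_range
  set W : SL2K → FreeGroup (Fin 5) := fun A => FreeGroup.map ι3 (w3 A)
  have hι : P.g5 ω ∘ ι3 = fun i => emb P.hδ P.hσ (![upT (1 : fixedField hF), dg ω, wM] i) :=
    funext fun i => by fin_cases i <;> rfl
  have hW : ∀ A, FreeGroup.lift (P.g5 ω) (W A) = emb P.hδ P.hσ A := fun A => by
    rw [lift_map, hι, lift_comp (emb P.hδ P.hσ), hw3]
  obtain ⟨lH, hH, hlH⟩ := hQ W hW
  -- unipotent words
  set WQ : Subgroup (FreeGroup (Fin 5)) :=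
    Subgroup.closure (Set.range (fun r => W (upT r)) ∪ Set.range (cj UW HW)) with hWQ
  have hwq : ∀ a b : F, b + σ b + a * σ a = 0 → ∃ w ∈ WQ, FreeGroup.lift (P.g5 ω) w = uE hF a b := by
    intro a b hab
    have h := mem_closure_Q P.hδ P.hσ hsurj P.inQ_u hab
    have e1 : WQ.map (FreeGroup.lift (P.g5 ω)) = Subgroup.closure
        (Set.range (fun r => emb P.hδ P.hσ (upT r)) ∪ Set.range (cj (uE hF 1 P.b1) (hE hF P.θ))) := by
      rw [hWQ, MonoidHom.map_closure, Set.image_union, ← Set.range_comp, ← Set.range_comp]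
      congr 2
      · exact congrArg _ (funext fun r => hW _)
      · exact congrArg _ (funext fun i => lift_cj _ _)
    rw [← e1] at h
    obtain ⟨w, hw, e⟩ := h
    exact ⟨w, hw, e⟩
  choose! wq hwqM hwqv using hwq
  have hbr : ∀ j : ℕ, ∃ a1 c1 a2 c2 : F, ∃ i : ℕ, c1 + σ c1 + a1 * σ a1 = 0 ∧ c2 + σ c2 + a2 * σ a2 = 0 ∧
      emb P.hδ P.hσ wM * uE hF ((P.θ : F) ^ j) (bb P ((P.θ : F) ^ j)) * (emb P.hδ P.hσ wM)⁻¹ =
        uE hF a1 c1 * hE hF P.θ ^ i * emb P.hδ P.hσ wM * uE hF a2 c2 := fun j => by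
    obtain ⟨a1, c1, a2, c2, h1, h2, i, h⟩ :=
      bruhat_model P.hθ P.hδ P.hσ (bb_par P ((P.θ : F) ^ j)) (bb_ne P (pow_ne_zero _ P.θ.ne_zero))
    exact ⟨a1, c1, a2, c2, i, h1, h2, h⟩
  choose A1 C1 A2 C2 I hc1 hc2 hbv using hbr
  let brel : ℕ → FreeGroup (Fin 5) := fun j =>
    W wM * wq ((P.θ : F) ^ j) (bb P ((P.θ : F) ^ j)) * (W wM)⁻¹ *
      (wq (A1 j) (C1 j) * HW ^ I j * W wM * wq (A2 j) (C2 j))⁻¹
  set lt : List (FreeGroup (Fin 5)) :=
    [HW ^ (q + 1) * (W (dg P.n0))⁻¹, HW * W (upT 1) * HW⁻¹ * (W (upT (P.n0 : fixedField hF)))⁻¹,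
      W wM * HW * (W wM)⁻¹ * HW ^ q] with hlt
  set l := l3.map (FreeGroup.map ι3) ++ lt ++ lH ++ (List.range (gg q)).map brel with hl
  have hsat : ∀ r ∈ l, FreeGroup.lift (P.g5 ω) r = 1 := by
    intro r hr
    simp only [hl, List.mem_append, List.mem_map] at hr
    rcases hr with ((⟨r, hr, rfl⟩ | hr) | hr) | ⟨j, -, rfl⟩
    · rw [lift_map, hι, lift_comp (emb P.hδ P.hσ), hsat3 r hr, map_one]
    · simp only [hlt, List.mem_cons, List.not_mem_nil, or_false] at hr
      have h4 : FreeGroup.lift (P.g5 ω) HW = hE hF P.θ := lift_HW _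
      rcases hr with rfl | rfl | rfl
      · rw [map_mul, map_inv, map_pow, h4, hW, emb_dg, P.n0_map, map_pow, mul_inv_cancel]
      · have hp : P.δ + σ P.δ + 0 * σ 0 = 0 := by rw [P.hσ]; ring
        simp only [map_mul, map_inv, h4, hW]
        rw [mul_inv_eq_one, emb_upT, emb_upT, OneMemClass.coe_one, mul_one, hE_uE P.θ hp, mul_zero, P.n0_coe,
          mul_comm P.δ]
      · simp only [map_mul, map_inv, map_pow, h4, hW]
        rw [emb_wM_hE, inv_mul_cancel]
    · exact hH.sat r hr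
    · simp only [brel, map_mul, map_inv, map_pow, hW, lift_HW]
      rw [hwqv _ _ (bb_par P _), hwqv _ _ (hc1 j), hwqv _ _ (hc2 j), mul_inv_eq_one]
      exact hbv j
  have hgen5 : Subgroup.closure (Set.range (P.g5 ω)) = ⊤ :=
    top_of_three P hq hgen (Subgroup.subset_closure ⟨3, rfl⟩) (Subgroup.subset_closure ⟨4, rfl⟩)
      (Subgroup.subset_closure ⟨2, rfl⟩)
  have hlen : l.length ≤ R.card + 3 + c + gg q := by
    simp only [hl, hlt, List.length_append, List.length_map, List.length_cons, List.length_nil, List.length_range]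
    omega
  obtain ⟨rels, hc, he'⟩ := isPres_of_list (P.g5 ω) l hsat hgen5 fun G _ x hx => by
    -- the graph
    let xp : Fin 5 → Cfsg.SU 3 F q × G := fun i => (P.g5 ω i, x i)
    let Γ := Subgroup.closure (Set.range xp)
    let x' : Fin 5 → Γ := fun i => ⟨xp i, Subgroup.subset_closure ⟨i, rfl⟩⟩
    let pr : Γ →* Cfsg.SU 3 F q := (MonoidHom.fst _ _).comp Γ.subtype
    let ps : Γ →* G := (MonoidHom.snd _ _).comp Γ.subtype
    have hpr : ∀ w, pr (FreeGroup.lift x' w) = FreeGroup.lift (P.g5 ω) w := fun w => (lift_comp pr x' w).symm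
    have hps : ∀ w, ps (FreeGroup.lift x' w) = FreeGroup.lift x w := fun w => (lift_comp ps x' w).symm
    have hxx : ∀ r ∈ l, FreeGroup.lift x' r = 1 := fun r hr => by
      refine Subtype.ext (Prod.ext ?_ ?_)
      · exact (hpr r).trans (hsat r hr)
      · exact (hps r).trans (hx r hr)
    have hgenΓ : Subgroup.closure (Set.range x') = ⊤ := by
      apply Subgroup.map_injective Γ.subtype_injective
      rw [MonoidHom.map_closure, ← Set.range_comp, ← MonoidHom.range_eq_map, Subgroup.range_subtype]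
      rfl
    have hprs : Function.Surjective pr := by
      rw [← MonoidHom.range_eq_top, eq_top_iff, ← hgen5, Subgroup.closure_le]
      rintro _ ⟨i, rfl⟩
      exact ⟨x' i, rfl⟩
    -- the core bound is applied to a group in the universe of the target
    have key : ∀ (H : Type uF) [Group H] (y : Fin 5 → H) (π : H →* Cfsg.SU 3 F q), (∀ i, π (y i) = P.g5 ω i) →
        (∀ r ∈ l, FreeGroup.lift y r = 1) → Subgroup.closure (Set.range y) = ⊤ →
        Finite H ∧ Nat.card H ≤ Nat.card (Cfsg.SU 3 F q) := by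
      intro H _ y π hπ hy hcl
      simp only [hl, List.mem_append, List.mem_map] at hy
      have hs : ∀ r ∈ (↑R : Set (FreeGroup (Fin 3))), FreeGroup.lift (y ∘ ι3) r = 1 := fun r hr => by
        rw [← lift_map]; exact hy _ (Or.inl (Or.inl (Or.inl ⟨r, Finset.mem_toList.2 hr, rfl⟩)))
      obtain ⟨A, hA⟩ : ∃ A : SL2K →* H, ∀ i, A (![upT (1 : fixedField hF), dg ω, wM] i) = (y ∘ ι3) i :=
        ⟨(PresentedGroup.toGroup hs).comp e.symm.toMonoidHom, fun i => by
          show PresentedGroup.toGroup hs (e.symm _) = _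
          rw [← he i, e.symm_apply_apply]
          exact PresentedGroup.toGroup.of hs⟩
      have hAW : ∀ g, FreeGroup.lift y (W g) = A g := fun g => by
        rw [lift_map, show y ∘ ι3 = fun i => A (![upT (1 : fixedField hF), dg ω, wM] i) from (funext hA).symm,
          lift_comp A, hw3]
      have ht3 : ∀ r ∈ lt, FreeGroup.lift y r = 1 := fun r hr => hy r (Or.inl (Or.inl (Or.inr hr)))
      simp only [hlt, List.mem_cons, List.not_mem_nil, or_false, forall_eq_or_imp, forall_eq, map_mul, map_inv, map_pow,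
        lift_HW, hAW] at ht3
      obtain ⟨hr1, hr2, hr3⟩ := ht3
      rw [mul_inv_eq_one] at hr1 hr2
      set u := y 3
      set h := y 4
      have hper : h ^ (q ^ 2 - 1) = 1 := by
        rw [show q ^ 2 - 1 = (q + 1) * (q - 1) by simpa using Nat.sq_sub_sq q 1, pow_mul, hr1, ← map_pow,
          ← map_pow, P.n0_pow, map_one, map_one]
      have hdgc : ∀ z : (fixedField hF)ˣ, Commute h (A (dg z)) := fun z => by
        obtain ⟨k, rfl⟩ := P.n0_gen z
        rw [map_pow, map_pow, ← hr1]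
        exact (Commute.refl h).pow_right _ |>.pow_right _
      have hscal : ∀ r : fixedField hF, h * A (upT r) * h⁻¹ = A (upT ((P.n0 : fixedField hF) * r)) := by
        have hup0 : A (upT (0 : fixedField hF)) = 1 := by rw [upT0, map_one]
        refine PSL2.SpFour.of_squares _ ?_ ?_ ?_
        · rw [mul_zero, hup0]; group
        · intro r s hr hs
          rw [upT_add, map_mul, conj_mul.symm, hr, hs, mul_add, upT_add, map_mul]
        · intro z
          have e2 : ∀ s : fixedField hF, A (upT ((z : fixedField hF) ^ 2 * s)) = A (dg z) * A (upT s) * (A (dg z))⁻¹ :=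
            fun s => by rw [← map_inv, ← map_mul, ← map_mul, dg_conj]
          have e3 : A (upT ((z : fixedField hF) ^ 2)) = A (dg z) * A (upT 1) * (A (dg z))⁻¹ := by
            have := e2 1; rwa [mul_one] at this
          rw [e3, mul_comm (P.n0 : fixedField hF), e2, ← hr2]
          calc h * (A (dg z) * A (upT 1) * (A (dg z))⁻¹) * h⁻¹
              = (h * A (dg z)) * A (upT 1) * (h * A (dg z))⁻¹ := by group
            _ = (A (dg z) * h) * A (upT 1) * (A (dg z) * h)⁻¹ := by rw [(hdgc z).eq]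
            _ = _ := by group
      have hZh : ∀ z ∈ zSub A, h * z * h⁻¹ ∈ zSub A := by
        intro z hz
        obtain ⟨r, rfl⟩ := mem_zSub.1 hz
        exact mem_zSub.2 ⟨_, hscal r⟩
      have hpowc : ∀ (k : ℕ) r, h ^ k * A (upT r) * (h ^ k)⁻¹ = A (upT ((P.n0 : fixedField hF) ^ k * r)) := by
        intro k
        induction k with
        | zero => intro r; simp
        | succ k ih =>
          intro r
          rw [pow_succ' (P.n0 : fixedField hF), mul_assoc (P.n0 : fixedField hF), ← hscal, ← ih r, pow_succ']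
          group
      have hqz : ∀ r, Commute (h ^ (q - 1)) (A (upT r)) := fun r => by
        have := hpowc (q - 1) r
        rw [← Units.val_pow_eq_pow_val, P.n0_pow, Units.val_one, one_mul, mul_inv_eq_iff_eq_mul] at this
        exact this
      have hscale : ∀ z : H, z ∈ zSub A → ∀ r0, r0 ≠ 0 → z = A (upT r0) → (∀ i : ℕ, Commute z (cj u h i)) →
          ∀ w ∈ zSub A, ∀ i : ℤ, Commute w (cj u h i) := by
        rintro z - r0 hr0 rfl hz w hw i
        obtain ⟨r, rfl⟩ := mem_zSub.1 hw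
        rcases eq_or_ne r 0 with rfl | hr
        · rw [upT0, map_one]; exact Commute.one_left _
        obtain ⟨k, hk⟩ := P.n0_gen (Units.mk0 r hr * (Units.mk0 r0 hr0)⁻¹)
        have hk' : r = (P.n0 : fixedField hF) ^ k * r0 := by
          have := congrArg (fun z : (fixedField hF)ˣ => ((z * Units.mk0 r0 hr0 : (fixedField hF)ˣ) : fixedField hF)) hk
          simpa using this
        obtain ⟨n, hn⟩ := cj_periodic u h (N_pos hF) hper (i - k)
        have hc := (hz n).map (MulAut.conj (h ^ k))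
        rw [← hn] at hc
        have e : cj u h i = MulAut.conj (h ^ k) (cj u h (i - k)) := by
          rw [← zpow_natCast, ← cj_add]; congr 1; ring
        rw [hk', ← hpowc, e]
        exact hc
      obtain ⟨up, wf, S, eu, eh, eZ, hcm⟩ := hH.suff H y A hAW hper hZh hqz hscale
        (fun r hr => hy r (Or.inl (Or.inr hr)))
      haveI : Finite S.Zs := eZ ▸ (card_zSub_le A).1
      have hMb := S.bound (t := eta q (P.θ : F)) hcm hf hsurj (by rw [eu, eZ]; exact up) (by rw [eu, eh, eZ]; exact wf)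
      have hπu : π u = uE hF 1 P.b1 := hπ 3
      have hπh : π h = hE hF P.θ := hπ 4
      have hπA : ∀ g, π (A g) = emb P.hδ P.hσ g := fun g => by
        rw [← hAW, ← lift_comp π y, funext hπ, hW]
      have hMeq : S.M = Subgroup.closure (Set.range (fun r => A (upT r)) ∪ Set.range (cj u h)) := by
        rw [Pre.M, eu, eh, eZ]
        congr 2
      have hcard : Nat.card S.M ≤ q ^ 3 := hMb.2.trans (by
        rw [eZ, Nat.card_eq_fintype_card (α := F), hF]
        exact (Nat.mul_le_mul_right _ (card_zSub_le A).2).trans (le_of_eq (by ring)))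
      have hlift : ∀ w ∈ WQ, FreeGroup.lift y w ∈ S.M := by
        intro w hw
        have hle : WQ ≤ S.M.comap (FreeGroup.lift y) := by
          rw [hWQ, Subgroup.closure_le]
          rintro _ (⟨r, rfl⟩ | ⟨i, rfl⟩)
          · show FreeGroup.lift y (W (upT r)) ∈ S.M
            rw [hAW, hMeq]; exact Subgroup.subset_closure (Or.inl ⟨r, rfl⟩)
          · show FreeGroup.lift y (cj UW HW i) ∈ S.M
            rw [lift_cj, hMeq]; exact Subgroup.subset_closure (Or.inr ⟨i, rfl⟩)
        exact hle hw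
      have hπw : ∀ a b : F, b + σ b + a * σ a = 0 → π (FreeGroup.lift y (wq a b)) = uE hF a b := fun a b hab => by
        rw [← lift_comp π y, funext hπ, hwqv a b hab]
      haveI := hMb.1
      have hinj : ∀ z ∈ S.M, ∀ a b : F, b + σ b + a * σ a = 0 → π z = uE hF a b → z = FreeGroup.lift y (wq a b) := by
        intro z hz a b hab ez
        haveI := Fintype.ofFinite S.M
        haveI := Fintype.ofFinite (Qpar F q)
        let g : Qpar F q → S.M := fun v => ⟨FreeGroup.lift y (wq v.1.1 v.1.2), hlift _ (hwqM _ _ v.2)⟩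
        have hg : Function.Injective g := fun v v' e => by
          have := congrArg (fun w : S.M => π (w : H)) e
          simp only [g] at this
          rw [hπw _ _ v.2, hπw _ _ v'.2] at this
          obtain ⟨h1, h2⟩ := uE_inj v.2 v'.2 this
          exact Subtype.ext (Prod.ext h1 h2)
        have hb : Function.Bijective g := (Fintype.bijective_iff_injective_and_card g).2 ⟨hg,
          le_antisymm (Fintype.card_le_of_injective g hg) (by
            rw [← Nat.card_eq_fintype_card, ← Nat.card_eq_fintype_card, card_Qpar hF]; exact hcard)⟩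
        obtain ⟨v, hv⟩ := hb.2 ⟨z, hz⟩
        have hv' : FreeGroup.lift y (wq v.1.1 v.1.2) = z := congrArg Subtype.val hv
        rw [← hv', hπw _ _ v.2] at ez
        obtain ⟨h1, h2⟩ := uE_inj v.2 hab ez
        rw [← hv', h1, h2]
      let B : BD hF P.θ P.δ P.hδ P.hσ P.b1 H :=
        { π := π, u := u, h := h, E := A, hθ := P.hθ, hb1 := P.hb1, gen_eta := hsurj
          πu := hπu, πh := hπh, πE := hπA
          Qg := S.M
          Qg_eq := hMeq
          Qg_card := ⟨hMb.1, hcard⟩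
          Qg_conj := fun z hz => by have := S.conj_M hz; rwa [eh] at this
          hnorm := fun z hz => by
            rw [show z = P.n0 from Units.ext (Subtype.ext hz)]; exact hr1
          ht := eq_inv_of_mul_eq_one_left hr3
          base := fun j hj a b ha hab ⟨k, hk⟩ z hz ez => by
            subst ha
            rw [bb_unique P hab hk] at ez
            have hr := hy (brel j) (Or.inr ⟨j, List.mem_range.2 hj, rfl⟩)
            simp only [brel, map_mul, map_inv, map_pow, hAW, lift_HW, mul_inv_eq_one] at hr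
            rw [← hinj z hz _ _ (bb_par P _) ez] at hr
            exact ⟨_, hlift _ (hwqM _ _ (hc1 j)), h ^ I j, pow_mem (Subgroup.mem_zpowers _) _,
              _, hlift _ (hwqM _ _ (hc2 j)), hr⟩
          gen := by
            rw [eq_top_iff, ← hcl, Subgroup.closure_le]
            set M' := Subgroup.closure ((S.M : Set H) ∪ {h, A wM})
            have hM' : ∀ z ∈ S.M, z ∈ M' := fun z hz => Subgroup.subset_closure (Or.inl hz)
            have hh' : h ∈ M' := Subgroup.subset_closure (Or.inr (Or.inl rfl))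
            rintro _ ⟨i, rfl⟩
            fin_cases i
            · show y (ι3 0) ∈ M'
              refine hM' _ ?_
              rw [show y (ι3 0) = A (upT 1) from (hA 0).symm, hMeq]
              exact Subgroup.subset_closure (Or.inl ⟨1, rfl⟩)
            · show y (ι3 1) ∈ M'
              obtain ⟨k, hk⟩ := P.n0_gen ω
              rw [show y (ι3 1) = A (dg ω) from (hA 1).symm, hk, map_pow, map_pow, ← hr1]
              exact pow_mem (pow_mem hh' _) _
            · show y (ι3 2) ∈ M'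
              rw [show y (ι3 2) = A wM from (hA 2).symm]
              exact Subgroup.subset_closure (Or.inr (Or.inr rfl))
            · refine hM' _ ?_
              show u ∈ S.M
              rw [hMeq]
              exact Subgroup.subset_closure (Or.inr ⟨0, cj_zero _ _⟩)
            · exact hh' }
      exact B.card_le
    have hΓ : Finite Γ ∧ Nat.card Γ ≤ Nat.card (Cfsg.SU 3 F q) := by
      exact key Γ x' pr (fun i => rfl) hxx hgenΓ
    haveI := hΓ.1
    have hbij : Function.Bijective pr := hprs.bijective_of_nat_card_le hΓ.2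
    exact ⟨ps.comp (MulEquiv.ofBijective pr hbij).symm.toMonoidHom, fun i => by
      show ps ((MulEquiv.ofBijective pr hbij).symm (pr (x' i))) = x i
      exact congrArg ps ((MulEquiv.ofBijective pr hbij).symm_apply_apply (x' i))⟩
  exact ⟨rels, hc.trans hlen, he'⟩

end core

/-- The multiplier generates the field: lifts of its minimal polynomial. -/
theorem exists_lift (P : Par hF) {p m : ℕ} [Fact p.Prime] [CharP F p] (hqp : q = p ^ m) :
    ∃ f : ℤ[X], f.Monic ∧ 0 < f.natDegree ∧ f.natDegree ≤ 2 * m ∧ aeval (eta q (P.θ : F)) f = 0 ∧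
      f.map (Int.castRingHom (ZMod p)) = @minpoly (ZMod p) F _ _ (ZMod.algebra F p) (eta q (P.θ : F)) := by
  letI : Algebra (ZMod p) F := ZMod.algebra F p
  obtain ⟨f, hm, hD, hf⟩ := exists_monic_lift hF hqp (eta q (P.θ : F))
  refine ⟨f, hm, ?_, hD, ?_, hf⟩
  · rw [← hm.natDegree_map (Int.castRingHom (ZMod p)), hf]
    exact minpoly.natDegree_pos (IsIntegral.of_finite _ _)
  · have := minpoly.aeval (ZMod p) (eta q (P.θ : F))
    rwa [← hf, ← algebraMap_int_eq, aeval_map_algebraMap] at this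

/-- Three generators and at most 23 relations. -/
theorem exists_pres {F : Type uF} [Field F] [Fintype F] {q : ℕ} (hF : Fintype.card F = q ^ 2) (hq : 3 ≤ q) :
    ∃ g : Fin 3 → Cfsg.SU 3 F q, IsPres g 23 := by
  classical
  obtain ⟨p, m, hp, hchar, hqp, hm⟩ := exists_prime_pow hF
  have := Fact.mk hp
  haveI : CharP (fixedField hF) p := (fixedField hF).subtype.charP Subtype.val_injective p
  have h2 : q ≠ 2 := by omega
  obtain ⟨P⟩ := exists_par hF
  -- a presentation of the rank one group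
  have fin : ∀ (P : Par hF) (ω : (fixedField hF)ˣ) (c : ℕ), c ≤ 23 →
      IsPres (P.g5 ω) c → ∃ g : Fin 3 → Cfsg.SU 3 F q, IsPres g 23 := by
    intro P ω c hc h
    obtain ⟨rels, hr, e, he⟩ := h
    have hgen : Subgroup.closure (Set.range ![P.g5 ω 3, P.g5 ω 4, P.g5 ω 2]) = ⊤ :=
      top_of_three P hq (eta_gen hF P.hθ h2) (Subgroup.subset_closure ⟨0, rfl⟩) (Subgroup.subset_closure ⟨1, rfl⟩)
        (Subgroup.subset_closure ⟨2, rfl⟩)
    obtain ⟨rels', hr', e', he'⟩ := AltPresent.exists_rels_of_gens rels e ![P.g5 ω 3, P.g5 ω 4, P.g5 ω 2] hgen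
      ![some 3, some 4, some 2] (fun j i hji => by
        fin_cases j <;> (simp at hji; subst hji; rw [he]; rfl))
      (fun j j' i h1 h2 => by
        have key : ∀ a b : Fin 3, (![some 3, some 4, some 2] : Fin 3 → Option (Fin 5)) a =
            (![some 3, some 4, some 2] : Fin 3 → Option (Fin 5)) b → a = b := by decide
        exact key j j' (h1.trans h2.symm))
    have h0 : (Finset.univ.filter fun j => (![some 3, some 4, some 2] : Fin 3 → Option (Fin 5)) j = none).card = 0 := by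
      decide
    rw [h0, add_zero] at hr'
    exact ⟨_, rels', hr'.trans (hr.trans hc), e', he'⟩
  by_cases h8 : q = 8
  · obtain ⟨hp2, hm3⟩ : p = 2 ∧ m = 3 := by
      have hd : p ∣ 2 ^ 3 := ⟨p ^ (m - 1), by rw [← pow_succ', Nat.sub_add_cancel hm, ← hqp, h8]; norm_num⟩
      have := (Nat.prime_dvd_prime_iff_eq hp Nat.prime_two).1 (hp.dvd_of_dvd_pow hd)
      subst this
      refine ⟨rfl, Nat.pow_right_injective le_rfl (show 2 ^ m = 2 ^ 3 by omega)⟩
    subst hp2
    let P2 : Par hF := { P with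
      δ := 1
      hδ := one_ne_zero
      hσ := by rw [map_one, CharTwo.neg_eq] }
    obtain ⟨ω, R, -, hR, e, he⟩ := PSL2.Pres.exists_pres_two (F := fixedField hF)
    obtain ⟨f, hfm, hD0, hD, hfa, hf⟩ := exists_lift P2 hqp
    refine fin P2 ω _ ?_ (core P2 hq ω e he (eta_gen hF P2.hθ h2) hf (c := 12) fun W hW =>
      ⟨_, hyp_fin hW hfa hfm hD0 (k := 1) (Or.inr ⟨rfl, rfl, rfl⟩), by rw [lFin_length]; omega⟩)
    have := gg_le q
    omega
  have hR : ∃ (ω : (fixedField hF)ˣ) (R : Finset (FreeGroup (Fin 3))), R.card ≤ 9 ∧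
      ∃ e : PresentedGroup (↑R : Set (FreeGroup (Fin 3))) ≃* SL(2, fixedField hF),
        ∀ i, e (PresentedGroup.of i) = ![upT (1 : fixedField hF), dg ω, wM] i := by
    by_cases hp2 : p = 2
    · subst hp2
      obtain ⟨ω, R, -, hR, he⟩ := PSL2.Pres.exists_pres_two (F := fixedField hF)
      exact ⟨ω, R, by omega, he⟩
    · obtain ⟨⟨ω, R, -, hR, he⟩, -⟩ := PSL2.Pres.exists_pres_odd (F := fixedField hF) hp2
      exact ⟨ω, R, hR, he⟩
  obtain ⟨ω, R, hR, e, he⟩ := hR
  obtain ⟨f, hfm, hD0, hD, hfa, hf⟩ := exists_lift P hqp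
  have hgg := gg_le q
  by_cases h5 : q = 5
  · have hm1 : m = 1 := ((Nat.Prime.pow_eq_iff (by norm_num : Nat.Prime 5)).1 (hqp.symm.trans h5)).2
    refine fin P ω _ ?_ (core P hq ω e he (eta_gen hF P.hθ h2) hf (c := 5) fun W hW =>
      ⟨_, hyp_fin hW hfa hfm hD0 (k := 0) (Or.inl rfl), by rw [lFin_length]; omega⟩)
    omega
  obtain ⟨A, B, hB, hA⟩ := exists_pair hF P.hθ h2 h5 h8
  obtain ⟨g1, hg1⟩ := surjective_of_closure (zeta_gen hF P.hθ h2 h5 h8) (eta q (P.θ : F))
  obtain ⟨g2, hg2⟩ := surjective_of_closure hA (eta q (P.θ : F))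
  refine fin P ω _ ?_ (core P hq ω e he (eta_gen hF P.hθ h2) hf (c := 7) fun W hW =>
    ⟨_, hyp_shift hW hfa hB hg1 hg2, le_rfl⟩)
  omega

end Cfsg.Agent.SUPresent
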