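/-
The centre of SU is cyclic, so one relation more presents PSU.

* `isCyclic_center`, `isPres_PSU`
-/
import Cfsg.Agent.Lib.Unitary.Center
import Cfsg.Agent.Lib.PSL2.PresTools

set_option autoImplicit false

namespace Cfsg.Agent.SUPresent

open Cfsg.Agent.Unitary
open Cfsg.Agent.PSL2.PresTools (IsPres)

variable {F : Type*} [Field F] [Fintype F] {q n : ℕ}

theorem isCyclic_center (hF : Fintype.card F = q ^ 2) (hn : 2 ≤ n) : IsCyclic (Subgroup.center (Cfsg.SU n F q)) := by
  have i0 : Fin n := ⟨0, by omega⟩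
  let m : Subgroup.center (Cfsg.SU n F q) → Matrix (Fin n) (Fin n) F := fun g =>
    (((g : Cfsg.SU n F q) : Matrix.SpecialLinearGroup (Fin n) F) : Matrix (Fin n) (Fin n) F)
  have hs : ∀ g, ∃ z : F, m g = Matrix.scalar (Fin n) z := fun g => (mem_center_SU_iff hF hn _).1 g.2
  let f : Subgroup.center (Cfsg.SU n F q) →* F :=
    { toFun := fun g => m g i0 i0
      map_one' := by simp [m]
      map_mul' := fun g h => by
        obtain ⟨a, ha⟩ := hs g
        obtain ⟨b, hb⟩ := hs h
        have e : m (g * h) = m g * m h := rfl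
        simp only [e, ha, hb, ← map_mul]
        simp [Matrix.scalar] }
  refine isCyclic_of_subgroup_isDomain f fun g h e => ?_
  obtain ⟨a, ha⟩ := hs g
  obtain ⟨b, hb⟩ := hs h
  have e' : m g i0 i0 = m h i0 i0 := e
  rw [ha, hb] at e'
  have hab : a = b := by simpa [Matrix.scalar] using e'
  exact Subtype.ext (Subtype.ext (Subtype.ext (ha.trans (hab ▸ hb.symm))))

/-- A presentation of SU gives one of PSU with one relation more. -/
theorem isPres_PSU (hF : Fintype.card F = q ^ 2) (hn : 2 ≤ n) {k c : ℕ} {g : Fin k → Cfsg.SU n F q}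
    (h : IsPres g c) : ∃ g' : Fin k → Cfsg.PSU n F q, IsPres g' (c + 1) := by
  haveI := isCyclic_center (q := q) hF hn
  obtain ⟨z, hz⟩ := IsCyclic.exists_generator (α := Subgroup.center (Cfsg.SU n F q))
  have hle : Subgroup.center (Cfsg.SU n F q) ≤ Subgroup.normalClosure {(z : Cfsg.SU n F q)} := fun x hx => by
    obtain ⟨k, hk⟩ := Subgroup.mem_zpowers_iff.1 (hz ⟨x, hx⟩)
    rw [show x = (z : Cfsg.SU n F q) ^ k from
      (congrArg Subtype.val hk).symm.trans (SubgroupClass.coe_zpow z k)]
    exact zpow_mem (Subgroup.subset_normalClosure (Set.mem_singleton _)) _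
  exact ⟨fun i => QuotientGroup.mk' (Subgroup.center (Cfsg.SU n F q)) (g i),
    IsPres.quotient h (Subgroup.center (Cfsg.SU n F q)) (z : Cfsg.SU n F q) z.2 hle⟩

end Cfsg.Agent.SUPresent
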